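import Cfsg.Agent.Lib.KondoClasses.Core
import Cfsg.Agent.Lib.Involution.Basic

/-!
# The data from a centraliser of alternating type

* `restrict` : the centraliser in `A_{4n+r}` maps onto that of `a0` with kernel of odd order;
* `nonempty_setup` : a group with such a centraliser of a 2-central involution carries `Setup`.
-/

set_option autoImplicit false
set_option synthInstance.maxSize 1024

namespace Cfsg.Agent.KondoClasses

open Equiv Equiv.Perm

variable {n r : ℕ}

theorem exists_labelling (α : Equiv.Perm (Fin (4 * n + r))) (h : α * α = 1) (hs : α.support.card = 4 * n) :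
    ∃ e : Pts n ⊕ Fin r ≃ Fin (4 * n + r), ∀ p, α (e p) = e (Equiv.sumCongr (a0 n) (1 : Equiv.Perm (Fin r)) p) := by
  classical
  haveI : Fact (Nat.Prime 2) := ⟨Nat.prime_two⟩
  obtain ⟨e₀⟩ : Nonempty (Pts n ⊕ Fin r ≃ Fin (4 * n + r)) :=
    ⟨Fintype.equivFinOfCardEq (by simp [Fintype.card_prod]; ring)⟩
  set β : Equiv.Perm (Fin (4 * n + r)) := e₀.permCongr (Equiv.sumCongr (a0 n) (1 : Equiv.Perm (Fin r))) with hβ
  have hβ2 : β * β = 1 := Equiv.ext fun x => by
    obtain ⟨p, rfl⟩ := e₀.surjective x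
    simp only [hβ, Perm.mul_apply, Equiv.permCongr_apply, Equiv.symm_apply_apply, Perm.one_apply]
    rcases p with p | p
    · simp only [Equiv.sumCongr_apply, Sum.map_inl, ← Perm.mul_apply, a0_sq, Perm.one_apply]
    · simp
  have hβs : β.support = (Finset.univ : Finset (Pts n)).map ((Function.Embedding.inl).trans e₀.toEmbedding) := by
    ext x
    obtain ⟨p, rfl⟩ := e₀.surjective x
    rcases p with p | p
    · simp [hβ, a0_free p]
    · simp [hβ]
  have hc : IsConj β α := by
    rw [isConj_iff_cycleType_eq]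
    have key : ∀ σ : Equiv.Perm (Fin (4 * n + r)), σ * σ = 1 → σ.support.card = 4 * n →
        σ.cycleType = Multiset.replicate (2 * n) 2 := by
      intro σ hσ hcard
      have h1 := cycleType_of_pow_prime_eq_one (p := 2) (σ := σ) (by rw [pow_two, hσ])
      have h2 := sum_cycleType σ
      rw [h1, Multiset.sum_replicate, smul_eq_mul, hcard] at h2
      rw [h1]
      congr 1
      omega
    rw [key α h hs, key β hβ2 (by rw [hβs, Finset.card_map, Finset.card_univ, ← Nat.card_eq_fintype_card, card_pts])]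
  obtain ⟨π, hπ⟩ := isConj_iff.1 hc
  refine ⟨e₀.trans π, fun p => ?_⟩
  rw [← hπ]
  simp [hβ]

/-- The centraliser in `A_{4n+r}` restricted to the moved points. -/
theorem restrict (hr : r = 2 ∨ r = 3) (α : ↥(alternatingGroup (Fin (4 * n + r)))) (hα : orderOf α = 2)
    (hα4 : (α : Equiv.Perm (Fin (4 * n + r))).support.card = 4 * n) :
    ∃ ρ : ↥(Subgroup.centralizer ({α} : Set ↥(alternatingGroup (Fin (4 * n + r))))) →* ↥(big n),
      Function.Surjective ρ ∧ Odd (Nat.card ρ.ker) := by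
  classical
  have hα2 : (α : Equiv.Perm (Fin (4 * n + r))) * α = 1 := by
    rw [← Subgroup.coe_mul, Involution.mul_self hα, Subgroup.coe_one]
  obtain ⟨e, he⟩ := exists_labelling _ hα2 hα4
  set H := Subgroup.centralizer ({α} : Set ↥(alternatingGroup (Fin (4 * n + r))))
  -- pull back to a permutation of the sum
  let pull : ↥H →* Equiv.Perm (Pts n ⊕ Fin r) :=
    (e.permCongrHom.symm.toMonoidHom.comp (alternatingGroup (Fin (4 * n + r))).subtype).comp H.subtype
  have hpull : ∀ (σ : ↥H) p, pull σ p = e.symm ((σ.1.1) (e p)) := fun σ p => rfl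
  have hcomm : ∀ (σ : ↥H) p, pull σ (Equiv.sumCongr (a0 n) 1 p) = Equiv.sumCongr (a0 n) (1 : Equiv.Perm (Fin r)) (pull σ p) := by
    intro σ p
    have h1 : σ.1.1 * α.1 = α.1 * σ.1.1 :=
      congrArg Subtype.val (Subgroup.mem_centralizer_singleton_iff.1 σ.2)
    apply e.injective
    rw [hpull, hpull, Equiv.apply_symm_apply, ← he, ← he, Equiv.apply_symm_apply, ← Perm.mul_apply, h1,
      Perm.mul_apply]
  have hrange : ∀ σ : ↥H, pull σ ∈ (sumCongrHom (Pts n) (Fin r)).range := by
    intro σ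
    refine mem_sumCongrHom_range_of_perm_mapsTo_inl ?_
    rintro _ ⟨p, rfl⟩
    rcases hq : pull σ (Sum.inl p) with q | q
    · exact ⟨q, rfl⟩
    · exfalso
      have h1 := hcomm σ (Sum.inl p)
      rw [hq] at h1
      have h2 : pull σ (Sum.inl (a0 n p)) = pull σ (Sum.inl p) := by rw [hq]; exact h1
      exact a0_free p (Sum.inl_injective ((pull σ).injective h2))
  let both : ↥H →* Equiv.Perm (Pts n) × Equiv.Perm (Fin r) :=
    (MonoidHom.ofInjective (sumCongrHom_injective (α := Pts n) (β := Fin r))).symm.toMonoidHom.comp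
      (pull.codRestrict _ hrange)
  have hboth : ∀ σ, Equiv.sumCongr (both σ).1 (both σ).2 = pull σ := fun σ =>
    congrArg Subtype.val (MulEquiv.apply_symm_apply
      (MonoidHom.ofInjective (sumCongrHom_injective (α := Pts n) (β := Fin r))) (pull.codRestrict _ hrange σ))
  have hmem : ∀ σ, (both σ).1 ∈ big n := fun σ => mem_big.2 (Equiv.ext fun p => by
    have h1 := hcomm σ (Sum.inl p)
    rw [← hboth σ] at h1
    simpa using h1)
  let ρ : ↥H →* ↥(big n) := ((MonoidHom.fst _ _).comp both).codRestrict _ hmem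
  have hsign : ∀ σ, sign (both σ).1 * sign (both σ).2 = 1 := by
    intro σ
    have h1 : sign (pull σ) = 1 := by
      show sign (e.symm.permCongr σ.1.1) = 1
      rw [sign_permCongr]
      exact mem_alternatingGroup.1 σ.1.2
    rwa [← hboth σ, sign_sumCongr] at h1
  refine ⟨ρ, ?_, ?_⟩
  · rintro ⟨a, ha⟩
    have hr2 : ∃ b : Equiv.Perm (Fin r), sign b = sign a := by
      rcases Int.units_eq_one_or (sign a) with h1 | h1
      · exact ⟨1, by simp [h1]⟩
      · refine ⟨Equiv.swap ⟨0, by omega⟩ ⟨1, by omega⟩, ?_⟩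
        rw [h1, sign_swap (by simp [Fin.ext_iff])]
    obtain ⟨b, hb⟩ := hr2
    have hA : e.permCongr (Equiv.sumCongr a b) ∈ alternatingGroup (Fin (4 * n + r)) := by
      rw [mem_alternatingGroup, sign_permCongr, sign_sumCongr, hb, Int.units_mul_self]
    have hH : (⟨_, hA⟩ : ↥(alternatingGroup (Fin (4 * n + r)))) ∈ H := by
      refine Subgroup.mem_centralizer_singleton_iff.2 (Subtype.ext (Equiv.ext fun x => ?_))
      obtain ⟨p, rfl⟩ := e.surjective x
      show e.permCongr (Equiv.sumCongr a b) (α.1 (e p)) = α.1 (e.permCongr (Equiv.sumCongr a b) (e p))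
      rw [he, Equiv.permCongr_apply, Equiv.permCongr_apply, Equiv.symm_apply_apply, Equiv.symm_apply_apply, he]
      rcases p with p | p
      · simp only [Equiv.sumCongr_apply, Sum.map_inl]
        rw [← Perm.mul_apply, mem_big.1 ha, Perm.mul_apply]
      · simp
    refine ⟨⟨_, hH⟩, Subtype.ext ?_⟩
    have h1 := hboth ⟨_, hH⟩
    have h2 : pull ⟨_, hH⟩ = Equiv.sumCongr a b := Equiv.ext fun p => by simp [hpull]
    rw [h2] at h1
    exact (Prod.ext_iff.1 (sumCongrHom_injective (show sumCongrHom _ _ (both ⟨_, hH⟩) = sumCongrHom _ _ (a, b) from h1))).1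
  · let q : ↥ρ.ker → ↥(alternatingGroup (Fin r)) := fun σ => ⟨(both σ.1).2, mem_alternatingGroup.2 (by
      have h1 := hsign σ.1
      rwa [show (both σ.1).1 = 1 from congrArg Subtype.val σ.2, map_one, one_mul] at h1)⟩
    have hq : Function.Injective q := by
      intro σ τ h1
      have hσ : (both σ.1).1 = 1 := congrArg Subtype.val σ.2
      have hτ : (both τ.1).1 = 1 := congrArg Subtype.val τ.2
      have h2 : pull σ.1 = pull τ.1 := by
        rw [← hboth, ← hboth, hσ, hτ, show (both σ.1).2 = (both τ.1).2 from congrArg Subtype.val h1]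
      refine Subtype.ext (Subtype.ext (Subtype.ext (e.permCongrHom.symm.injective h2)))
    let qh : ↥ρ.ker →* ↥(alternatingGroup (Fin r)) :=
      ((MonoidHom.snd _ _).comp (both.comp ρ.ker.subtype)).codRestrict _ fun σ => (q σ).2
    have hd : Nat.card ρ.ker ∣ Nat.card ↥(alternatingGroup (Fin r)) :=
      Subgroup.card_dvd_of_injective qh fun σ τ h1 => hq h1
    refine Odd.of_dvd_nat ?_ hd
    rcases hr with rfl | rfl <;>
      (rw [nat_card_alternatingGroup, Nat.card_eq_fintype_card, Fintype.card_fin]; decide +kernel)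

/-- Finsets of equal size differ by a permutation. -/
theorem exists_perm {R R' : Finset (Fin n)} (h : R.card = R'.card) :
    ∃ σ : Equiv.Perm (Fin n), ∀ i, (i ∈ R' ↔ σ.symm i ∈ R) := by
  classical
  refine ⟨(Finset.equivOfCardEq h).extendSubtype, fun i => ?_⟩
  obtain ⟨j, rfl⟩ := (Finset.equivOfCardEq h).extendSubtype.surjective i
  rw [Equiv.symm_apply_apply]
  by_cases hj : j ∈ R
  · exact iff_of_true (Equiv.extendSubtype_mem _ j hj) hj
  · exact iff_of_false (Equiv.extendSubtype_not_mem _ j hj) hj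

theorem nonempty_setup (hr : r = 2 ∨ r = 3) (α : ↥(alternatingGroup (Fin (4 * n + r)))) (hα : orderOf α = 2)
    (hα4 : (α : Equiv.Perm (Fin (4 * n + r))).support.card = 4 * n) {G : Type*} [Group G] [Finite G]
    (t : G) (S : Sylow 2 G) (htZ : ∀ s ∈ (S : Subgroup G), s * t = t * s)
    (hiso : Nonempty (↥(Subgroup.centralizer ({t} : Set G)) ≃*
      ↥(Subgroup.centralizer ({α} : Set ↥(alternatingGroup (Fin (4 * n + r))))))) :
    Nonempty (Setup G n) := by
  classical
  haveI : Fact (Nat.Prime 2) := ⟨Nat.prime_two⟩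
  obtain ⟨iso⟩ := hiso
  obtain ⟨ρ₀, hsur, hodd⟩ := restrict hr α hα hα4
  set C := Subgroup.centralizer ({t} : Set G) with hC
  have hSC : (S : Subgroup G) ≤ C := fun s hs => Subgroup.mem_centralizer_singleton_iff.2 (htZ s hs)
  let P : Sylow 2 ↥C := S.subtype hSC
  have hsur₁ : Function.Surjective (ρ₀.comp iso.toMonoidHom) := hsur.comp iso.surjective
  obtain ⟨Q, hQ⟩ := ((isPGroup_base (n := n)).comap_of_injective (big n).subtype
    (Subgroup.subtype_injective _)).exists_le_sylow
  obtain ⟨w, hw⟩ := MulAction.exists_smul_eq ↥(big n) (P.mapSurjective hsur₁) Q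
  set ρ : ↥C →* ↥(big n) := (MulAut.conj w).toMonoidHom.comp (ρ₀.comp iso.toMonoidHom) with hρ
  have hρsur : Function.Surjective ρ := (MulAut.conj w).surjective.comp hsur₁
  have hker : ∀ x : ↥C, ρ x = 1 → Odd (orderOf x) := by
    intro x hx
    have hx' : ρ₀ (iso x) = 1 := (MulAut.conj w).injective (hx.trans (map_one _).symm)
    rw [← MulEquiv.orderOf_eq iso x]
    refine Odd.of_dvd_nat hodd ?_
    exact Subgroup.orderOf_dvd_natCard ρ₀.ker (MonoidHom.mem_ker.2 hx')
  have hPQ : ∀ s : ↥(S : Subgroup G), ρ ⟨s, hSC s.2⟩ ∈ (Q : Subgroup ↥(big n)) := by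
    intro s
    rw [← hw, Sylow.coe_subgroup_smul]
    exact ⟨_, ⟨⟨s, hSC s.2⟩, s.2, rfl⟩, rfl⟩
  let φ : ↥(S : Subgroup G) →* ↥(Q : Subgroup ↥(big n)) :=
    (ρ.comp (Subgroup.inclusion hSC)).codRestrict _ hPQ
  have hφ : ∀ s, ((φ s : ↥(Q : Subgroup ↥(big n))) : ↥(big n)) = ρ ⟨s, hSC s.2⟩ := fun _ => rfl
  have hφinj : Function.Injective φ := by
    refine (injective_iff_map_eq_one φ).2 fun s hs => ?_
    have h1 := hker ⟨s, hSC s.2⟩ (congrArg Subtype.val hs)
    obtain ⟨k, hk⟩ := IsPGroup.iff_orderOf.1 S.isPGroup' s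
    rw [show orderOf (⟨s, hSC s.2⟩ : ↥C) = orderOf s from orderOf_injective (Subgroup.inclusion hSC)
      (Subgroup.inclusion_injective hSC) s, hk] at h1
    rcases k with _ | k
    · exact orderOf_eq_one_iff.1 (by simpa using hk)
    · exact absurd h1 (Nat.not_odd_iff_even.2 ⟨2 ^ k, by ring⟩)
  have hφsur : Function.Surjective φ := by
    rintro ⟨y, hy⟩
    rw [← hw, Sylow.coe_subgroup_smul] at hy
    obtain ⟨_, ⟨s, hs, rfl⟩, rfl⟩ := hy
    exact ⟨⟨s, hs⟩, rfl⟩
  let e : ↥(S : Subgroup G) ≃* ↥(Q : Subgroup ↥(big n)) := MulEquiv.ofBijective φ ⟨hφinj, hφsur⟩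
  let bQ : (Fin n → M) →* ↥(Q : Subgroup ↥(big n)) :=
    MonoidHom.mk' (fun f => ⟨⟨base n f, base_mem_big f⟩, hQ (Subgroup.mem_comap.2 ⟨f, rfl⟩)⟩)
      fun f g => Subtype.ext (Subtype.ext (map_mul (base n) f g))
  let ι : (Fin n → M) →* G := (S : Subgroup G).subtype.comp (e.symm.toMonoidHom.comp bQ)
  have hιS : ∀ f, ι f ∈ (S : Subgroup G) := fun f => (e.symm (bQ f)).2
  have hρι : ∀ f, ρ ⟨ι f, hSC (hιS f)⟩ = ⟨base n f, base_mem_big f⟩ := fun f =>
    congrArg Subtype.val (e.apply_symm_apply (bQ f))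
  have hιinj : Function.Injective ι := fun f g h => base_injective
    (congrArg (fun x : ↥(big n) => (x : Equiv.Perm (Pts n))) (congrArg Subtype.val (e.symm.injective (Subtype.ext h))))
  -- involutions of the centraliser with the same image are conjugate
  have hsame : ∀ a b : ↥C, a * a = 1 → b * b = 1 → ρ a = ρ b → IsConj (a : G) b := by
    intro a b ha hb hab
    have ho : Odd (orderOf (a * b)) := hker _ (by rw [map_mul, ← hab, ← map_mul, ha, map_one])
    rcases eq_or_ne a 1 with rfl | ha1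
    · rcases eq_or_ne b 1 with rfl | hb1
      · exact IsConj.refl _
      · rw [one_mul, Involution.orderOf_of_sq hb hb1] at ho
        exact absurd ho (by decide)
    · rcases eq_or_ne b 1 with rfl | hb1
      · rw [mul_one, Involution.orderOf_of_sq ha ha1] at ho
        exact absurd ho (by decide)
      · exact C.subtype.map_isConj (Involution.isConj_of_odd (Involution.orderOf_of_sq ha ha1)
          (Involution.orderOf_of_sq hb hb1) ho)
  let incl : ↥(S : Subgroup G) →* Equiv.Perm (Pts n) :=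
    (big n).subtype.comp ((Q : Subgroup ↥(big n)).subtype.comp e.toMonoidHom)
  have hincl : Function.Injective incl :=
    (Subgroup.subtype_injective _).comp ((Subgroup.subtype_injective _).comp e.injective)
  refine ⟨{ S := S, ι := ι, inj := hιinj, le_S := hιS, max := ?_, through := ?_,
            lamS := (lam n).comp ((Q : Subgroup ↥(big n)).subtype.comp e.toMonoidHom), lam_ι := ?_, perm := ?_ }⟩
  · intro A hA hAS hcard a ha
    set A' := (A.subgroupOf (S : Subgroup G)).map incl with hA'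
    have hE : Elem A' := by
      have : Elem (A.subgroupOf (S : Subgroup G)) :=
        ⟨fun x hx => Subtype.ext (hA.sq x hx), fun x hx y hy => Subtype.ext (hA.comm x hx y hy)⟩
      exact this.map _
    have hle : A' ≤ (Q : Subgroup ↥(big n)).map (big n).subtype := by
      rintro _ ⟨s, -, rfl⟩
      exact ⟨_, (e s).2, rfl⟩
    obtain ⟨f, hf⟩ := base_of_maximal (Q.isPGroup'.map (big n).subtype) (by rintro _ ⟨x, -, rfl⟩; exact x.2)
      (by rintro _ ⟨f, rfl⟩; exact ⟨_, (bQ f).2, rfl⟩) hle hE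
      (by rw [hA', Subgroup.card_map_of_injective hincl,
        Nat.card_congr (Subgroup.subgroupOfEquivOfLe hAS).toEquiv, hcard]) ⟨⟨a, hAS ha⟩, ha, rfl⟩
    refine ⟨f, congrArg Subtype.val (show e.symm (bQ f) = ⟨a, hAS ha⟩ from
      (MulEquiv.symm_apply_eq e).2 (Subtype.ext (Subtype.ext hf)))⟩
  · intro x hx
    obtain ⟨P', hP'⟩ := ((IsPGroup.of_card (n := 1) (by rw [Nat.card_zpowers, hx, pow_one])) :
      IsPGroup 2 ↥(Subgroup.zpowers x)).exists_le_sylow
    obtain ⟨k, hk⟩ := MulAction.exists_smul_eq G P' S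
    set x' := k * x * k⁻¹ with hx'
    have hx'S : x' ∈ (S : Subgroup G) := by
      rw [← hk, Sylow.coe_subgroup_smul]
      exact ⟨x, hP' (Subgroup.mem_zpowers x), rfl⟩
    have hx'2 : x' * x' = 1 := Involution.mul_self ((Involution.orderOf_conj k x).trans hx)
    set y : ↥C := ⟨x', hSC hx'S⟩
    obtain ⟨A, hAb, hA, hyA, hAc⟩ := exists_elem_through (ρ y).2
      (congrArg Subtype.val (show ρ y * ρ y = 1 by rw [← map_mul, show y * y = 1 from Subtype.ext hx'2, map_one]))
    set A₁ : Subgroup ↥(big n) := A.subgroupOf (big n)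
    have hA₁ : Elem A₁ := ⟨fun a ha => Subtype.ext (hA.sq a ha), fun a ha b hb => Subtype.ext (hA.comm a ha b hb)⟩
    obtain ⟨Q', hQ'⟩ := hA₁.isPGroup.exists_le_sylow
    obtain ⟨u, hu⟩ := MulAction.exists_smul_eq ↥(big n) Q' Q
    have huA : A₁.map (MulAut.conj u).toMonoidHom ≤ (Q : Subgroup ↥(big n)) := by
      rintro _ ⟨a, ha, rfl⟩
      rw [← hu, Sylow.coe_subgroup_smul]
      exact ⟨a, hQ' ha, rfl⟩
    set A₂ := ((A₁.map (MulAut.conj u).toMonoidHom).subgroupOf (Q : Subgroup ↥(big n))).map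
      ((S : Subgroup G).subtype.comp e.symm.toMonoidHom) with hA₂
    obtain ⟨v, hv⟩ := hρsur u
    set z : ↥(S : Subgroup G) := e.symm ⟨u * ρ y * u⁻¹, huA ⟨ρ y, hyA, rfl⟩⟩ with hz
    have hρz : ρ ⟨z, hSC z.2⟩ = ρ (v * y * v⁻¹) := by
      rw [map_mul, map_mul, map_inv, hv]
      exact congrArg Subtype.val (e.apply_symm_apply _)
    have hzA₂ : (z : G) ∈ A₂ := ⟨_, (show ⟨u * ρ y * u⁻¹, _⟩ ∈ (A₁.map (MulAut.conj u).toMonoidHom).subgroupOf
      (Q : Subgroup ↥(big n)) from ⟨ρ y, hyA, rfl⟩), rfl⟩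
    have hA₂e : Elem A₂ := by
      have h1 := hA₁.map (MulAut.conj u).toMonoidHom
      have h3 : Elem ((A₁.map (MulAut.conj u).toMonoidHom).subgroupOf (Q : Subgroup ↥(big n))) :=
        ⟨fun a ha => Subtype.ext (h1.sq a ha), fun a ha b hb => Subtype.ext (h1.comm a ha b hb)⟩
      exact h3.map _
    have hc2 : IsConj ((v * y * v⁻¹ : ↥C) : G) z :=
      hsame _ ⟨z, hSC z.2⟩ (by rw [show v * y * v⁻¹ * (v * y * v⁻¹) = v * (y * y) * v⁻¹ by group,
        show y * y = 1 from Subtype.ext hx'2, mul_one, mul_inv_cancel])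
        (Subtype.ext (hA₂e.sq _ hzA₂)) hρz.symm
    obtain ⟨c, hc⟩ := isConj_iff.1 hc2
    refine ⟨c * v * k, A₂, hA₂e, by rintro _ ⟨a, -, rfl⟩; exact (e.symm a).2, ?_, ?_⟩
    · rw [hA₂, Subgroup.card_map_of_injective (f := (S : Subgroup G).subtype.comp e.symm.toMonoidHom)
        ((Subgroup.subtype_injective _).comp e.symm.injective),
        Nat.card_congr (Subgroup.subgroupOfEquivOfLe huA).toEquiv,
        Subgroup.card_map_of_injective (MulAut.conj u).injective,
        Nat.card_congr (Subgroup.subgroupOfEquivOfLe hAb).toEquiv, hAc]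
    · convert hzA₂ using 1
      rw [← hc]
      push_cast
      simp [y, hx', mul_assoc]
  · intro f
    show lam n (ρ ⟨ι f, hSC (hιS f)⟩) = _
    rw [hρι, lam_base]
  · intro R R' hcard
    obtain ⟨σ, hσ⟩ := exists_perm hcard
    obtain ⟨v, hv⟩ := hρsur ⟨blockPerm n σ, blockPerm_mem_big σ⟩
    have hsq : ∀ R, (⟨ι (zel R), hSC (hιS _)⟩ : ↥C) * ⟨ι (zel R), hSC (hιS _)⟩ = 1 := fun R =>
      Subtype.ext (by push_cast; rw [← map_mul, zel_sq, map_one])
    set a : ↥C := ⟨ι (zel R), hSC (hιS _)⟩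
    have h1 : IsConj ((v * a * v⁻¹ : ↥C) : G) (ι (zel R')) :=
      hsame _ ⟨ι (zel R'), hSC (hιS _)⟩ (by
        rw [show v * a * v⁻¹ * (v * a * v⁻¹) = v * (a * a) * v⁻¹ by group, hsq R, mul_one, mul_inv_cancel]) (hsq R') (by
        rw [map_mul, map_mul, map_inv, hρι, hρι, hv]
        apply Subtype.ext
        push_cast
        rw [blockPerm_base, mul_inv_cancel_right]
        refine congrArg (base n) (funext fun i => ?_)
        simp only [zel, ← hσ i])
    exact (isConj_iff.2 ⟨(v : G), by push_cast; rfl⟩ : IsConj (ι (zel R)) ((v * a * v⁻¹ : ↥C) : G)).trans h1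

end Cfsg.Agent.KondoClasses
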