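import Cfsg.Agent.Lib.KondoClasses.Model
import Cfsg.Agent.Lib.U62Rec.HypTransfer

/-!
# The fusion of involutions

* `Setup` : a Sylow 2-subgroup contains `J = M ^ n`, generated by its elementary abelian subgroups of largest order;
* `Setup.weight` : conjugate elements of `Z(J)` are products of equally many basic involutions;
* `Setup.step` : a non-central coordinate of an involution of `J` can be removed by conjugation;
* `Setup.classes` : there are exactly `n` classes of involutions.
-/

set_option autoImplicit false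
set_option synthInstance.maxSize 1024

namespace Cfsg.Agent.KondoClasses

/-- The central element with support `R`. -/
def zel {n : ℕ} (R : Finset (Fin n)) : Fin n → M := fun i => if i ∈ R then zM else 1

theorem zel_comm {n : ℕ} (R : Finset (Fin n)) (f : Fin n → M) : zel R * f = f * zel R := funext fun i => by
  simp only [zel, Pi.mul_apply]
  split_ifs
  · exact zM_comm _
  · simp

theorem zel_sq {n : ℕ} (R : Finset (Fin n)) : zel R * zel R = 1 := funext fun i => by
  simp only [zel, Pi.mul_apply, Pi.one_apply]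
  split_ifs
  · exact zM_sq
  · simp

theorem zel_inj {n : ℕ} {R R' : Finset (Fin n)} (h : zel R = zel R') : R = R' := Finset.ext fun i => by
  have := congrFun h i
  simp only [zel] at this
  split_ifs at this with h1 h2 h2
  · exact iff_of_true h1 h2
  · exact absurd this zM_ne
  · exact absurd this.symm zM_ne
  · exact iff_of_false h1 h2

theorem exists_zel {n : ℕ} {f : Fin n → M} (h : ∀ i, f i = 1 ∨ f i = zM) : ∃ R, f = zel R := by
  refine ⟨Finset.univ.filter fun i => f i = zM, funext fun i => ?_⟩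
  simp only [zel, Finset.mem_filter, Finset.mem_univ, true_and]
  split_ifs with h'
  · exact h'
  · exact (h i).resolve_right h'

theorem single_sq {n : ℕ} {i : Fin n} {a : M} (ha : a * a = 1) :
    Pi.mulSingle (M := fun _ : Fin n => M) i a * Pi.mulSingle i a = 1 := by
  rw [← Pi.mulSingle_mul, ha, Pi.mulSingle_one]

/-- The data about `G` that are used. -/
structure Setup (G : Type*) [Group G] [Finite G] (n : ℕ) where
  S : Sylow 2 G
  ι : (Fin n → M) →* G
  inj : Function.Injective ι
  le_S : ∀ f, ι f ∈ (S : Subgroup G)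
  max : ∀ A : Subgroup G, Elem A → A ≤ (S : Subgroup G) → Nat.card A = 4 ^ n → A ≤ ι.range
  through : ∀ x : G, orderOf x = 2 → ∃ (c : G) (A : Subgroup G),
    Elem A ∧ A ≤ (S : Subgroup G) ∧ Nat.card A = 4 ^ n ∧ c * x * c⁻¹ ∈ A
  lamS : ↥(S : Subgroup G) →* ℤˣ
  lam_ι : ∀ f, lamS ⟨ι f, le_S f⟩ = ∏ i, chi (f i)
  perm : ∀ R R' : Finset (Fin n), R.card = R'.card → IsConj (ι (zel R)) (ι (zel R'))

namespace Setup

variable {G : Type*} [Group G] [Finite G] {n : ℕ} (D : Setup G n)

theorem conj_group {A : Subgroup (Fin n → M)} (hA : Elem A) (hc : Nat.card A = 4 ^ n) (g : G)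
    (hS : ∀ a ∈ A, g * D.ι a * g⁻¹ ∈ (D.S : Subgroup G)) {a : Fin n → M} (ha : a ∈ A) :
    ∃ b, D.ι b = g * D.ι a * g⁻¹ := by
  have hi : Function.Injective ((MulAut.conj g).toMonoidHom.comp D.ι) := (MulAut.conj g).injective.comp D.inj
  refine D.max (A.map ((MulAut.conj g).toMonoidHom.comp D.ι)) (hA.map _) ?_
    (by rw [Subgroup.card_map_of_injective hi, hc]) ⟨a, ha, rfl⟩
  rintro _ ⟨a, ha, rfl⟩
  exact hS a ha

theorem conj_le {g : G} (hS : ∀ f, g * D.ι f * g⁻¹ ∈ (D.S : Subgroup G)) (f : Fin n → M) :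
    ∃ f', D.ι f' = g * D.ι f * g⁻¹ := by
  have h1 : ∀ a : Fin n → M, (∀ i, a i * a i = 1) → ∃ b, D.ι b = g * D.ι a * g⁻¹ := fun a ha => by
    obtain ⟨A, hA, hAc, haA⟩ := exists_elem_base ha
    exact D.conj_group hA hAc g (fun x _ => hS x) haA
  choose a b ha hb hab using fun i => gen_two (f i)
  obtain ⟨a', ha'⟩ := h1 a ha
  obtain ⟨b', hb'⟩ := h1 b hb
  refine ⟨a' * b', ?_⟩
  rw [map_mul, ha', hb', show f = a * b from funext hab, map_mul]
  group

theorem central_mem {g : G} {R : Finset (Fin n)} (hS : ∀ f, g * D.ι f * g⁻¹ ∈ (D.S : Subgroup G)) :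
    ∃ R', g * D.ι (zel R) * g⁻¹ = D.ι (zel R') := by
  obtain ⟨f', hf'⟩ := D.conj_le hS (zel R)
  have hsur : Function.Surjective fun f : Fin n → M => Classical.choose (D.conj_le hS f) := by
    refine Finite.injective_iff_surjective.1 fun a b h => D.inj ?_
    have h1 := Classical.choose_spec (D.conj_le hS a)
    have h2 := Classical.choose_spec (D.conj_le hS b)
    replace h : Classical.choose (D.conj_le hS a) = Classical.choose (D.conj_le hS b) := h
    rw [h, h2] at h1
    exact (MulAut.conj g).injective h1.symm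
  have hcomm : ∀ u, f' * u = u * f' := by
    intro u
    obtain ⟨v, hv⟩ := hsur u
    have hv' := Classical.choose_spec (D.conj_le hS v)
    simp only at hv
    rw [hv] at hv'
    apply D.inj
    rw [map_mul, map_mul, hf', hv', show g * D.ι (zel R) * g⁻¹ * (g * D.ι v * g⁻¹) = g * (D.ι (zel R) * D.ι v) * g⁻¹ by group,
      ← map_mul, zel_comm, map_mul]
    group
  obtain ⟨R', hR'⟩ := exists_zel (f := f') fun i => central_iff (f' i) fun b => by
    simpa using congrFun (hcomm (Pi.mulSingle i b)) i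
  exact ⟨R', by rw [← hf', hR']⟩

/-- A basic involution goes to a basic involution under an element normalising `J`. -/
theorem single_map {g : G} (hS : ∀ f, g * D.ι f * g⁻¹ ∈ (D.S : Subgroup G)) (i : Fin n) :
    ∃ j, g * D.ι (zel {i}) * g⁻¹ = D.ι (zel {j}) := by
  obtain ⟨a, b, -, -, hab⟩ := exists_pair
  obtain ⟨a', ha'⟩ := D.conj_le hS (Pi.mulSingle i a)
  obtain ⟨b', hb'⟩ := D.conj_le hS (Pi.mulSingle i b)
  obtain ⟨R, hR⟩ := D.central_mem (R := {i}) hS
  have hab' : ∀ u : Fin n → M, a' * u = u * a' ∨ a' * u = u * a' * zel R := by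
    intro u
    have hsur : Function.Surjective fun f : Fin n → M => Classical.choose (D.conj_le hS f) := by
      refine Finite.injective_iff_surjective.1 fun a b h => D.inj ?_
      replace h : Classical.choose (D.conj_le hS a) = Classical.choose (D.conj_le hS b) := h
      have h1 := Classical.choose_spec (D.conj_le hS a)
      have h2 := Classical.choose_spec (D.conj_le hS b)
      rw [h, h2] at h1
      exact (MulAut.conj g).injective h1.symm
    obtain ⟨v, hv⟩ := hsur u
    have hv' := Classical.choose_spec (D.conj_le hS v)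
    simp only at hv
    rw [hv] at hv'
    have key : Pi.mulSingle i a * v = v * Pi.mulSingle i a ∨ Pi.mulSingle i a * v = v * Pi.mulSingle i a * zel {i} := by
      rcases comm_or a (v i) with h | h
      · refine Or.inl (funext fun q => ?_)
        rcases eq_or_ne q i with rfl | hq
        · simpa using h
        · simp [hq]
      · refine Or.inr (funext fun q => ?_)
        rcases eq_or_ne q i with rfl | hq
        · simpa [zel] using h
        · simp [zel, hq]
    rcases key with h | h
    · refine Or.inl (D.inj ?_)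
      rw [map_mul, map_mul, ha', hv', show g * D.ι (Pi.mulSingle i a) * g⁻¹ * (g * D.ι v * g⁻¹)
        = g * (D.ι (Pi.mulSingle i a) * D.ι v) * g⁻¹ by group, ← map_mul, h, map_mul]
      group
    · refine Or.inr (D.inj ?_)
      rw [map_mul, map_mul, map_mul, ha', hv', ← hR, show g * D.ι (Pi.mulSingle i a) * g⁻¹ * (g * D.ι v * g⁻¹)
        = g * (D.ι (Pi.mulSingle i a) * D.ι v) * g⁻¹ by group, ← map_mul, h, map_mul, map_mul]
      group
  have hne : a' * b' ≠ b' * a' := by
    intro h
    apply hab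
    have h' := congrArg D.ι h
    rw [map_mul, map_mul, ha', hb', show g * D.ι (Pi.mulSingle i a) * g⁻¹ * (g * D.ι (Pi.mulSingle i b) * g⁻¹)
      = g * (D.ι (Pi.mulSingle i a) * D.ι (Pi.mulSingle i b)) * g⁻¹ by group,
      show g * D.ι (Pi.mulSingle i b) * g⁻¹ * (g * D.ι (Pi.mulSingle i a) * g⁻¹)
      = g * (D.ι (Pi.mulSingle i b) * D.ι (Pi.mulSingle i a)) * g⁻¹ by group, ← map_mul, ← map_mul] at h'
    simpa using congrFun (D.inj ((MulAut.conj g).injective h')) i
  obtain ⟨q, hq⟩ : ∃ q, a' q * b' q ≠ b' q * a' q := by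
    by_contra! h
    exact hne (funext h)
  refine ⟨q, ?_⟩
  rw [hR]
  have h1 := (hab' (Pi.mulSingle q (b' q))).resolve_left fun h => hq (by simpa using congrFun h q)
  refine congrArg (fun R => D.ι (zel R)) (Finset.ext fun r => ?_)
  have h2 := congrFun h1 r
  rcases eq_or_ne r q with rfl | hr
  · simp only [Finset.mem_singleton, iff_true]
    by_contra hn
    simp [zel, hn] at h2
    exact hq h2
  · simp only [Finset.mem_singleton, hr, iff_false]
    intro hn
    simp [zel, hn, hr] at h2
    exact zM_ne h2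

theorem zel_map {g : G} {σ : Fin n → Fin n} (hσ : Function.Injective σ) {R : Finset (Fin n)}
    (h : ∀ i ∈ R, g * D.ι (zel {i}) * g⁻¹ = D.ι (zel {σ i})) :
    g * D.ι (zel R) * g⁻¹ = D.ι (zel (R.image σ)) := by
  classical
  induction R using Finset.induction_on with
  | empty =>
    have h0 : zel (∅ : Finset (Fin n)) = 1 := funext fun i => by simp [zel]
    simp [h0]
  | insert a R ha ih =>
    have e : ∀ (a : Fin n) (R : Finset (Fin n)), a ∉ R → zel (insert a R) = zel {a} * zel R := fun a R ha =>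
      funext fun i => by
        rcases eq_or_ne i a with rfl | hi
        · simp [zel, ha]
        · simp [zel, hi]
    rw [Finset.image_insert, e a R ha, e (σ a) _ (by simpa [hσ.eq_iff] using ha), map_mul, map_mul,
      ← h a (Finset.mem_insert_self _ _), ← ih fun i hi => h i (Finset.mem_insert_of_mem hi)]
    group

theorem normalizer_map {g : G} (hS : ∀ f, g * D.ι f * g⁻¹ ∈ (D.S : Subgroup G)) (R : Finset (Fin n)) :
    ∃ R', g * D.ι (zel R) * g⁻¹ = D.ι (zel R') ∧ R'.card = R.card := by
  classical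
  choose σ hσ using D.single_map hS
  have hinj : Function.Injective σ := fun i j h => by
    have h' : g * D.ι (zel {i}) * g⁻¹ = g * D.ι (zel {j}) * g⁻¹ := by rw [hσ, hσ, h]
    exact Finset.singleton_injective (zel_inj (D.inj ((MulAut.conj g).injective h')))
  exact ⟨R.image σ, D.zel_map hinj fun i _ => hσ i, Finset.card_image_of_injective _ hinj⟩

theorem isPGroup_range : IsPGroup 2 ↥D.ι.range :=
  D.S.isPGroup'.to_le (by rintro _ ⟨f, rfl⟩; exact D.le_S f)

/-- Conjugate central elements have equal weight. -/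
theorem weight {R R' : Finset (Fin n)} (h : IsConj (D.ι (zel R)) (D.ι (zel R'))) : R.card = R'.card := by
  haveI : Fact (Nat.Prime 2) := ⟨Nat.prime_two⟩
  obtain ⟨k, hk⟩ := isConj_iff.1 h
  set y := D.ι (zel R') with hy
  set C := Subgroup.centralizer ({y} : Set G) with hC
  have hJ : ∀ f, D.ι f ∈ C := fun f => Subgroup.mem_centralizer_singleton_iff.2 (by
    rw [hy, ← map_mul, ← map_mul, zel_comm])
  have hJk : ∀ f, k * D.ι f * k⁻¹ ∈ C := fun f => Subgroup.mem_centralizer_singleton_iff.2 (by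
    rw [← hk, show k * D.ι f * k⁻¹ * (k * D.ι (zel R) * k⁻¹) = k * (D.ι f * D.ι (zel R)) * k⁻¹ by group,
      show k * D.ι (zel R) * k⁻¹ * (k * D.ι f * k⁻¹) = k * (D.ι (zel R) * D.ι f) * k⁻¹ by group,
      ← map_mul, ← map_mul, zel_comm])
  obtain ⟨P, hP⟩ := (D.isPGroup_range.comap_of_injective C.subtype (Subgroup.subtype_injective _)).exists_le_sylow
  obtain ⟨P', hP'⟩ := (((D.isPGroup_range.map (MulAut.conj k).toMonoidHom)).comap_of_injective C.subtype
    (Subgroup.subtype_injective _)).exists_le_sylow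
  obtain ⟨c, hc⟩ := MulAction.exists_smul_eq ↥C P' P
  obtain ⟨T, hT⟩ := (P.isPGroup'.map C.subtype).exists_le_sylow
  obtain ⟨d, hd⟩ := MulAction.exists_smul_eq G T D.S
  have hin : ∀ z ∈ (P : Subgroup ↥C), d * (z : G) * d⁻¹ ∈ (D.S : Subgroup G) := by
    intro z hz
    rw [← hd, Sylow.coe_subgroup_smul]
    exact ⟨(z : G), hT ⟨z, hz, rfl⟩, rfl⟩
  have h1 : ∀ f, d * D.ι f * d⁻¹ ∈ (D.S : Subgroup G) := fun f => hin ⟨_, hJ f⟩ (hP ⟨f, rfl⟩)
  have h2 : ∀ f, d * (c : G) * k * D.ι f * (d * (c : G) * k)⁻¹ ∈ (D.S : Subgroup G) := by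
    intro f
    have hz : (c * ⟨_, hJk f⟩ * c⁻¹ : ↥C) ∈ (P : Subgroup ↥C) := by
      rw [← hc, Sylow.coe_subgroup_smul]
      exact ⟨⟨_, hJk f⟩, hP' ⟨D.ι f, ⟨f, rfl⟩, rfl⟩, rfl⟩
    have := hin _ hz
    push_cast at this
    simpa [mul_assoc] using this
  obtain ⟨A, hA, hAc⟩ := D.normalizer_map h1 R'
  obtain ⟨B, hB, hBc⟩ := D.normalizer_map h2 R
  have hcy : (c : G) * y = y * c := Subgroup.mem_centralizer_singleton_iff.1 c.2
  have h3 : d * (c : G) * k * D.ι (zel R) * (d * (c : G) * k)⁻¹ = d * y * d⁻¹ := by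
    rw [show d * (c : G) * k * D.ι (zel R) * (d * (c : G) * k)⁻¹
      = d * ((c : G) * (k * D.ι (zel R) * k⁻¹) * (c : G)⁻¹) * d⁻¹ by group, hk, hcy, mul_inv_cancel_right]
  have : A = B := zel_inj (D.inj (by rw [← hA, ← hB, h3]))
  rw [← hBc, ← this, hAc]

/-- The transfer step: a single non-central involution `T` in place `i` is a twisted basic involution. -/
theorem exists_beta (h2 : ∀ H : Subgroup G, H.Normal → H.index ≠ 2) (i : Fin n) {T : M} (hT : T * T = 1)
    (h1 : T ≠ 1) (hz : T ≠ zM) :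
    ∃ (g : G) (i' : Fin n) (β : Fin n → M), β * β = 1 ∧ β i = T ∧ (∀ q, q ≠ i → β q = 1 ∨ β q = zM) ∧
      g * D.ι β * g⁻¹ = D.ι (zel {i'}) ∧
      (∀ f : Fin n → M, (∀ q, f q * f q = 1) → f i * T = T * f i → ∃ f', D.ι f' = g * D.ι f * g⁻¹) ∧
      ∃ (h : Fin n → M) (m : M), D.ι h = g * D.ι (zel {i}) * g⁻¹ ∧ h i' * m ≠ m * h i' := by
  classical
  haveI : Fact (Nat.Prime 2) := ⟨Nat.prime_two⟩
  set x : Fin n → M := Pi.mulSingle i T with hx
  have hxi : x i = T := Pi.mulSingle_eq_same _ _
  have hxq : ∀ q, q ≠ i → x q = 1 := fun q hq => Pi.mulSingle_eq_of_ne hq _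
  have hxo : orderOf (D.ι x) = 2 := by
    refine orderOf_eq_prime (by rw [pow_two, ← map_mul, single_sq hT, map_one]) fun h => h1 ?_
    have := congrFun (D.inj (h.trans (map_one _).symm)) i
    rwa [hxi] at this
  set Q : Subgroup G := D.lamS.ker.map (D.S : Subgroup G).subtype with hQ
  have hxQ : D.ι x ∉ Q := by
    rintro ⟨⟨y, hy⟩, hk, e⟩
    have hk' : D.lamS ⟨D.ι x, D.le_S x⟩ = 1 := by
      rw [← MonoidHom.mem_ker]
      rw [show (⟨D.ι x, D.le_S x⟩ : ↥(D.S : Subgroup G)) = ⟨y, hy⟩ from Subtype.ext e.symm]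
      exact hk
    rw [D.lam_ι, Finset.prod_eq_single i (fun q _ hq => by rw [hxq q hq, chi_central.1]) (by simp), hxi,
      (chi_val T hT).2 ⟨h1, hz⟩] at hk'
    exact absurd hk' (by decide)
  have hQi : Q.relIndex (D.S : Subgroup G) = 2 := by
    rw [hQ, Subgroup.relIndex, Subgroup.subgroupOf, Subgroup.comap_map_eq_self_of_injective
      (Subgroup.subtype_injective _), Subgroup.index_ker]
    have hle : Nat.card D.lamS.range ≤ Nat.card ℤˣ := Nat.card_le_card_of_injective _ Subtype.val_injective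
    rw [show Nat.card ℤˣ = 2 by rw [Nat.card_eq_fintype_card]; rfl] at hle
    have hlt : 1 < Nat.card D.lamS.range := by
      refine Finite.one_lt_card_iff_nontrivial.2 ⟨⟨1, D.lamS.rangeRestrict ⟨D.ι x, D.le_S x⟩, fun e => hxQ ?_⟩⟩
      exact ⟨⟨D.ι x, D.le_S x⟩, (congrArg Subtype.val e).symm, rfl⟩
    omega
  rcases U62Rec.transfer_extremal D.S Q (by rintro _ ⟨y, -, rfl⟩; exact y.2) hQi (D.ι x) hxo (D.le_S x) hxQ with
    ⟨H, hH, hHi, -⟩ | ⟨g, hgQ, hg⟩
  · exact absurd hHi (h2 H hH)
  -- images of the involutions commuting with `x`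
  have himg : ∀ f : Fin n → M, (∀ q, f q * f q = 1) → f i * T = T * f i → ∃ f', D.ι f' = g * D.ι f * g⁻¹ := by
    intro f hf hfi
    obtain ⟨U, hU, hfU⟩ := exists_choice hf
    set U' := Function.update U i T
    have hU' : ∀ q, U' q * U' q = 1 ∧ U' q ≠ 1 ∧ U' q ≠ zM := fun q => by
      rcases eq_or_ne q i with rfl | hq
      · simp [U', hT, h1, hz]
      · simpa [U', hq] using hU q
    refine D.conj_group (choiceGroup_elem hU') (choiceGroup_card hU') g (fun a ha => hg _ (D.le_S a) ?_) fun q => ?_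
    · refine Commute.map (funext fun q => ?_) D.ι
      rcases eq_or_ne q i with rfl | hq
      · simpa [U', hxi] using ha q
      · simp [hxq q hq]
    · rcases eq_or_ne q i with rfl | hq
      · simpa [U'] using hfi
      · simpa [U', hq] using hfU q
  obtain ⟨u, hu⟩ := himg x (fun q => congrFun (single_sq hT) q) (by rw [hxi])
  obtain ⟨h, hh⟩ := himg (zel {i}) (fun q => congrFun (zel_sq {i}) q) (by simp [zel, zM_comm])
  obtain ⟨a, b, ha, hb, hab⟩ := exists_pair
  have hP : ∀ (q : Fin n) (e : M), e * e = 1 → q ≠ i → ∃ f', D.ι f' = g * D.ι (Pi.mulSingle q e) * g⁻¹ :=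
    fun q e he hq => himg _ (fun r => congrFun (single_sq he) r) (by simp [Ne.symm hq])
  -- the basic involutions away from `i` go to basic involutions
  have hloc : ∀ q, q ≠ i → ∃ (j : Fin n) (p p' : Fin n → M), g * D.ι (zel {q}) * g⁻¹ = D.ι (zel {j}) ∧
      p j * p' j ≠ p' j * p j ∧ D.ι p = g * D.ι (Pi.mulSingle q a) * g⁻¹ ∧
      D.ι p' = g * D.ι (Pi.mulSingle q b) * g⁻¹ := by
    intro q hq
    obtain ⟨p, hp⟩ := hP q a ha hq
    obtain ⟨p', hp'⟩ := hP q b hb hq
    obtain ⟨w, hw⟩ := himg (zel {q}) (fun r => congrFun (zel_sq {q}) r) (by simp [zel, Ne.symm hq])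
    have hpw : p * p' = p' * p * w := by
      apply D.inj
      simp only [map_mul, hp, hp', hw]
      rw [show g * D.ι (Pi.mulSingle q a) * g⁻¹ * (g * D.ι (Pi.mulSingle q b) * g⁻¹)
        = g * (D.ι (Pi.mulSingle q a) * D.ι (Pi.mulSingle q b)) * g⁻¹ by group, ← map_mul,
        show Pi.mulSingle q a * Pi.mulSingle q b = Pi.mulSingle q b * Pi.mulSingle q a * zel {q} from funext fun r => by
          rcases eq_or_ne r q with rfl | hr
          · simpa [zel] using (comm_or a b).resolve_left hab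
          · simp [zel, hr], map_mul, map_mul]
      group
    obtain ⟨R, hR⟩ := exists_zel (f := w) fun r => by
      rcases comm_or (p r) (p' r) with e | e
      · exact Or.inl (mul_left_cancel (a := p' r * p r) ((congrFun hpw r).symm.trans (e.trans (mul_one _).symm)))
      · exact Or.inr (mul_left_cancel (a := p' r * p r) ((congrFun hpw r).symm.trans e))
    have hcard : R.card = 1 := by
      rw [← Finset.card_singleton q]
      exact (D.weight (isConj_iff.2 ⟨g, by rw [← hw, hR]⟩)).symm
    obtain ⟨j, rfl⟩ := Finset.card_eq_one.1 hcard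
    refine ⟨j, p, p', by rw [← hw, hR], fun e => zM_ne ?_, hp, hp'⟩
    have := congrFun hpw j
    rw [hR, Pi.mul_apply, Pi.mul_apply, Pi.mul_apply, e] at this
    simpa [zel] using this.symm
  choose σ p p' hσ hne hp hp' using hloc
  let σ' : {q // q ≠ i} → Fin n := fun q => σ q.1 q.2
  have hσinj : Function.Injective σ' := fun q r e => Subtype.ext (by
    have h' : g * D.ι (zel {q.1}) * g⁻¹ = g * D.ι (zel {r.1}) * g⁻¹ :=
      ((hσ q.1 q.2).trans (congrArg (fun s => D.ι (zel {s})) e)).trans (hσ r.1 r.2).symm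
    exact Finset.singleton_injective (zel_inj (D.inj ((MulAut.conj g).injective h'))))
  obtain ⟨i', hi'⟩ : ∃ i', i' ∉ Set.range σ' := by
    by_contra! hs
    have := Fintype.card_le_of_surjective σ' hs
    rw [Fintype.card_subtype_compl, Fintype.card_subtype_eq, Fintype.card_fin] at this
    exact absurd this (by have := i.2; omega)
  have honto : ∀ j, j ≠ i' → ∃ q, ∃ hq : q ≠ i, σ q hq = j := by
    intro j hj
    by_contra! hno
    have hsub : Finset.univ.image σ' ⊆ Finset.univ \ {i', j} := by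
      intro r hr
      obtain ⟨q, -, rfl⟩ := Finset.mem_image.1 hr
      simp only [Finset.mem_sdiff, Finset.mem_univ, Finset.mem_insert, Finset.mem_singleton, true_and, not_or]
      exact ⟨fun e => hi' ⟨q, e⟩, hno q.1 q.2⟩
    have := Finset.card_le_card hsub
    rw [Finset.card_image_of_injective _ hσinj, Finset.card_sdiff_of_subset (Finset.subset_univ _),
      Finset.card_univ, Finset.card_univ, Fintype.card_subtype_compl, Fintype.card_subtype_eq, Fintype.card_fin,
      Finset.card_pair (Ne.symm hj)] at this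
    have h2n : 2 ≤ n := by
      have h' : ({i', j} : Finset (Fin n)).card ≤ n := by simpa using Finset.card_le_univ ({i', j} : Finset (Fin n))
      rwa [Finset.card_pair (Ne.symm hj)] at h'
    omega
  -- what commutes with those images is central away from `i'`
  have hcent : ∀ (f f' : Fin n → M), D.ι f' = g * D.ι f * g⁻¹ → (∀ q, q ≠ i → f q = 1 ∨ f q = zM) →
      ∀ j, j ≠ i' → f' j = 1 ∨ f' j = zM := by
    intro f f' hf' hfc j hj
    obtain ⟨q, hq, rfl⟩ := honto j hj
    have key : ∀ (e : M) (r : Fin n → M), D.ι r = g * D.ι (Pi.mulSingle q e) * g⁻¹ → f' * r = r * f' := by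
      intro e r hr
      apply D.inj
      rw [map_mul, map_mul, hf', hr, show g * D.ι f * g⁻¹ * (g * D.ι (Pi.mulSingle q e) * g⁻¹)
        = g * (D.ι f * D.ι (Pi.mulSingle q e)) * g⁻¹ by group, ← map_mul,
        show f * Pi.mulSingle q e = Pi.mulSingle q e * f from funext fun s => by
          rcases eq_or_ne s q with rfl | hs
          · rcases hfc s hq with e' | e' <;> simp [e', zM_comm]
          · simp [hs], map_mul]
      group
    exact central_of_two _ _ _ (congrFun (key a _ (hp q hq)) _) (congrFun (key b _ (hp' q hq)) _) (hne q hq)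
  have hu2 : u * u = 1 := D.inj (by
    rw [map_mul, map_one, hu, show g * D.ι x * g⁻¹ * (g * D.ι x * g⁻¹) = g * (D.ι x * D.ι x) * g⁻¹ by group,
      ← map_mul, show x * x = 1 from single_sq hT]
    simp)
  have hui : u i' = 1 ∨ u i' = zM := by
    by_contra hn
    rw [not_or] at hn
    obtain ⟨⟨y, hy⟩, hk, e⟩ := hgQ
    have hk' : D.lamS ⟨D.ι u, D.le_S u⟩ = 1 := by
      rw [← MonoidHom.mem_ker]
      rw [show (⟨D.ι u, D.le_S u⟩ : ↥(D.S : Subgroup G)) = ⟨y, hy⟩ from Subtype.ext (hu.trans e.symm)]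
      exact hk
    rw [D.lam_ι, Finset.prod_eq_single i' (fun j _ hj => ?_) (by simp), (chi_val _ (congrFun hu2 i')).2 hn] at hk'
    · exact absurd hk' (by decide)
    · rcases hcent x u hu (fun q hq => Or.inl (hxq q hq)) j hj with e' | e' <;> rw [e']
      · exact chi_central.1
      · exact chi_central.2
  obtain ⟨R, hR⟩ := exists_zel (f := u) fun j => by
    rcases eq_or_ne j i' with rfl | hj
    · exact hui
    · exact hcent x u hu (fun q hq => Or.inl (hxq q hq)) j hj
  set R₀ : Finset (Fin n) := Finset.univ.filter fun q => ∃ hq : q ≠ i, σ q hq ∈ R with hR₀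
  -- an auxiliary injection extending `σ`
  set τ : Fin n → Fin n := fun q => if hq : q = i then i' else σ q hq with hτ
  have hτinj : Function.Injective τ := fun q r e => by
    simp only [hτ] at e
    split_ifs at e with h1 h2 h2
    · rw [h1, h2]
    · exact absurd ⟨⟨r, h2⟩, e.symm⟩ hi'
    · exact absurd ⟨⟨q, h1⟩, e⟩ hi'
    · exact congrArg Subtype.val (hσinj (a₁ := ⟨q, h1⟩) (a₂ := ⟨r, h2⟩) e)
  have hR₀map : g * D.ι (zel R₀) * g⁻¹ = D.ι (zel (R.erase i')) := by
    rw [D.zel_map (σ := τ) hτinj fun q hq => by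
      have hq' : q ≠ i := ((Finset.mem_filter.1 hq).2).choose
      rw [hσ q hq']; simp [hτ, hq']]
    refine congrArg (fun R => D.ι (zel R)) (Finset.ext fun j => ?_)
    simp only [Finset.mem_image, Finset.mem_erase, hR₀, Finset.mem_filter, Finset.mem_univ, true_and]
    constructor
    · rintro ⟨q, ⟨hq, hqR⟩, rfl⟩
      simp only [hτ, dif_neg hq]
      exact ⟨fun e => hi' ⟨⟨q, hq⟩, e⟩, hqR⟩
    · rintro ⟨hj, hjR⟩
      obtain ⟨q, hq, rfl⟩ := honto j hj
      exact ⟨q, ⟨hq, hjR⟩, by simp [hτ, hq]⟩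
  have hiR₀ : i ∉ R₀ := by simp [hR₀]
  have hi'R : i' ∈ R := by
    by_contra hn
    rw [Finset.erase_eq_of_notMem hn, ← hR, hu] at hR₀map
    have := congrFun (D.inj ((MulAut.conj g).injective hR₀map)) i
    simp [zel, hiR₀, hxi] at this
    exact h1 this.symm
  refine ⟨g, i', x * zel R₀, ?_, by simp [zel, hiR₀, hxi], fun q hq => ?_, ?_, himg, h, ?_⟩
  · rw [mul_assoc, ← mul_assoc (zel R₀), zel_comm, mul_assoc, zel_sq, mul_one]
    exact single_sq hT
  · simp only [Pi.mul_apply, hxq q hq, one_mul, zel]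
    split_ifs
    · exact Or.inr rfl
    · exact Or.inl rfl
  · rw [map_mul, show g * (D.ι x * D.ι (zel R₀)) * g⁻¹ = g * D.ι x * g⁻¹ * (g * D.ι (zel R₀) * g⁻¹) by group,
      ← hu, hR₀map, ← map_mul, hR]
    refine congrArg D.ι (funext fun j => ?_)
    rcases eq_or_ne j i' with rfl | hj
    · simp [zel, hi'R]
    · by_cases hjR : j ∈ R <;> simp [zel, hj, hjR, zM_sq]
  · -- the image of the basic involution `i` is not central at `i'`
    have hni : ¬ (h i' = 1 ∨ h i' = zM) := by
      intro hci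
      obtain ⟨W, hW⟩ := exists_zel (f := h) fun j => by
        rcases eq_or_ne j i' with rfl | hj
        · exact hci
        · exact hcent (zel {i}) h hh (fun q hq => Or.inl (by simp [zel, hq])) j hj
      have hWc : W.card = 1 := by
        rw [← Finset.card_singleton i]
        exact (D.weight (isConj_iff.2 ⟨g, by rw [← hh, hW]⟩)).symm
      obtain ⟨j, rfl⟩ := Finset.card_eq_one.1 hWc
      rcases eq_or_ne j i' with rfl | hj
      · have e : g * D.ι (x * zel R₀) * g⁻¹ = g * D.ι (zel {i}) * g⁻¹ := by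
          rw [← hh, hW, map_mul, show g * (D.ι x * D.ι (zel R₀)) * g⁻¹
            = g * D.ι x * g⁻¹ * (g * D.ι (zel R₀) * g⁻¹) by group, ← hu, hR₀map, ← map_mul, hR]
          refine congrArg D.ι (funext fun r => ?_)
          rcases eq_or_ne r j with rfl | hr
          · simp [zel, hi'R]
          · by_cases hrR : r ∈ R <;> simp [zel, hr, hrR, zM_sq]
        have := congrFun (D.inj ((MulAut.conj g).injective e)) i
        simp [zel, hiR₀, hxi] at this
        exact hz this
      · obtain ⟨q, hq, rfl⟩ := honto j hj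
        have e : g * D.ι (zel {q}) * g⁻¹ = g * D.ι (zel {i}) * g⁻¹ := by rw [hσ q hq, ← hh, hW]
        exact hq (Finset.singleton_injective (zel_inj (D.inj ((MulAut.conj g).injective e))))
    rw [not_or] at hni
    obtain ⟨m, -, hm⟩ := exists_noncomm (h i') hni.1 hni.2
    exact ⟨m, hh, hm⟩

/-- Removing one non-central coordinate. -/
theorem step (h2 : ∀ H : Subgroup G, H.Normal → H.index ≠ 2) {f : Fin n → M} (hf : f * f = 1) (i : Fin n)
    (h1 : f i ≠ 1) (hz : f i ≠ zM) :
    ∃ f' : Fin n → M, f' * f' = 1 ∧ IsConj (D.ι f) (D.ι f') ∧ (f' i = 1 ∨ f' i = zM) ∧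
      ∀ q, (f q = 1 ∨ f q = zM) → (f' q = 1 ∨ f' q = zM) := by
  obtain ⟨g, i', β, hβ2, hβi, hβq, hgβ, himg, h, m, hh, hm⟩ := D.exists_beta h2 i (congrFun hf i) h1 hz
  have hcβ : f * β = β * f := funext fun q => by
    rcases eq_or_ne q i with rfl | hq
    · simp [hβi]
    · rcases hβq q hq with e | e <;> simp [e, zM_comm]
  obtain ⟨v, hv⟩ : ∃ v, v = f * β := ⟨_, rfl⟩
  have hv2 : v * v = 1 := by
    rw [hv, show f * β * (f * β) = f * (β * f) * β by group, ← hcβ, show f * (f * β) * β = f * f * (β * β) by group,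
      hf, hβ2, mul_one]
  have hvi : v i = 1 := by rw [hv, Pi.mul_apply, hβi]; exact congrFun hf i
  obtain ⟨w, hw⟩ := himg v (fun q => congrFun hv2 q) (by simp [hvi])
  set d := g⁻¹ * D.ι (Pi.mulSingle i' m) * g with hd
  have act : ∀ (a a' : Fin n → M), D.ι a' = g * D.ι a * g⁻¹ →
      (a' i' * m = m * a' i' → d * D.ι a * d⁻¹ = D.ι a) ∧
      (a' i' * m ≠ m * a' i' → d * D.ι a * d⁻¹ = D.ι a * D.ι β) := by
    intro a a' ha
    have key : d * D.ι a * d⁻¹ = g⁻¹ * D.ι (Pi.mulSingle i' m * a' * (Pi.mulSingle i' m)⁻¹) * g := by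
      rw [map_mul, map_mul, map_inv, ha, hd]
      group
    refine ⟨fun hc => ?_, fun hc => ?_⟩
    · rw [key, show Pi.mulSingle i' m * a' * (Pi.mulSingle i' m)⁻¹ = a' from funext fun q => by
        rcases eq_or_ne q i' with rfl | hq
        · simp [← hc]
        · simp [hq], ha]
      group
    · rw [key, show Pi.mulSingle i' m * a' * (Pi.mulSingle i' m)⁻¹ = a' * zel {i'} from funext fun q => by
        rcases eq_or_ne q i' with rfl | hq
        · simp only [Pi.mul_apply, Pi.inv_apply, Pi.mulSingle_eq_same, zel, Finset.mem_singleton, if_true]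
          rcases comm_or m (a' q) with e | e
          · exact absurd e.symm hc
          · rw [e, mul_assoc (a' q * m), zM_comm, mul_assoc (a' q), mul_inv_cancel_left]
        · simp [zel, hq], map_mul, ha, ← hgβ]
      group
  have hdβ : d * D.ι β * d⁻¹ = D.ι β :=
    (act β (zel {i'}) hgβ.symm).1 (by simp [zel, zM_comm])
  have hdb : d * D.ι (zel {i}) * d⁻¹ = D.ι (zel {i}) * D.ι β := (act _ h hh).2 hm
  have hvcent : ∀ q, (f q = 1 ∨ f q = zM) → (v q = 1 ∨ v q = zM) := by
    intro q hq
    have hqi : q ≠ i := fun e => by subst e; exact hq.elim h1 hz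
    rw [hv, Pi.mul_apply]
    rcases hq with e | e <;> rcases hβq q hqi with e' | e' <;> simp [e, e', zM_sq]
  have hfv : f = v * β := by rw [hv, mul_assoc, hβ2, mul_one]
  rcases em (w i' * m = m * w i') with hc | hc
  · obtain ⟨m₀, hm₀, hTm⟩ := exists_noncomm (f i) h1 hz
    refine ⟨v * zel {i}, ?_, ?_, ?_, fun q hq => ?_⟩
    · rw [show v * zel {i} * (v * zel {i}) = v * (zel {i} * v) * zel {i} by group, zel_comm,
        show v * (v * zel {i}) * zel {i} = v * v * (zel {i} * zel {i}) by group, hv2, zel_sq, mul_one]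
    · have e1 : IsConj (D.ι f) (D.ι (f * zel {i})) := by
        refine isConj_iff.2 ⟨D.ι (Pi.mulSingle i m₀), ?_⟩
        rw [← map_inv, ← map_mul, ← map_mul]
        refine congrArg D.ι (funext fun q => ?_)
        rcases eq_or_ne q i with rfl | hq
        · simp only [Pi.mul_apply, Pi.inv_apply, Pi.mulSingle_eq_same, zel, Finset.mem_singleton, if_true]
          rcases comm_or m₀ (f q) with e | e
          · exact absurd e.symm hTm
          · rw [e, mul_assoc (f q * m₀), zM_comm, mul_assoc (f q), mul_inv_cancel_left]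
        · simp [zel, hq]
      refine e1.trans (isConj_iff.2 ⟨d, ?_⟩)
      rw [hfv, map_mul, map_mul, map_mul, show d * (D.ι v * D.ι β * D.ι (zel {i})) * d⁻¹
        = d * D.ι v * d⁻¹ * (d * D.ι β * d⁻¹) * (d * D.ι (zel {i}) * d⁻¹) by group, (act v w hw).1 hc, hdβ, hdb,
        ← map_mul, ← map_mul, ← map_mul, ← map_mul]
      refine congrArg D.ι ?_
      rw [zel_comm, mul_assoc v β, ← mul_assoc β β, hβ2, one_mul]
    · exact Or.inr (by simp [hvi, zel])
    · have hqi : q ≠ i := fun e => by subst e; exact hq.elim h1 hz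
      rcases hvcent q hq with e | e <;> simp [zel, e, hqi]
  · refine ⟨v, hv2, isConj_iff.2 ⟨d, ?_⟩, Or.inl hvi, hvcent⟩
    rw [hfv, map_mul, show d * (D.ι v * D.ι β) * d⁻¹ = d * D.ι v * d⁻¹ * (d * D.ι β * d⁻¹) by group,
      (act v w hw).2 hc, hdβ, mul_assoc, ← map_mul, ← map_mul, hβ2, mul_one]

/-- Every involution of `J` is conjugate into its centre. -/
theorem to_center (h2 : ∀ H : Subgroup G, H.Normal → H.index ≠ 2) {f : Fin n → M} (hf : f * f = 1) :
    ∃ R, IsConj (D.ι f) (D.ι (zel R)) := by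
  classical
  suffices key : ∀ (k : ℕ) (f : Fin n → M), f * f = 1 →
      (Finset.univ.filter fun q => ¬(f q = 1 ∨ f q = zM)).card ≤ k → ∃ R, IsConj (D.ι f) (D.ι (zel R)) from
    key _ f hf le_rfl
  intro k
  induction k with
  | zero =>
    intro f _ hk
    obtain ⟨R, hR⟩ := exists_zel (f := f) fun q => by
      by_contra hn
      rw [Nat.le_zero, Finset.card_eq_zero, Finset.filter_eq_empty_iff] at hk
      exact hk (Finset.mem_univ q) hn
    exact ⟨R, by rw [hR]⟩
  | succ k ih =>
    intro f hf hk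
    by_cases he : ∀ q, f q = 1 ∨ f q = zM
    · obtain ⟨R, hR⟩ := exists_zel he
      exact ⟨R, by rw [hR]⟩
    · push Not at he
      obtain ⟨i, h1, hz⟩ := he
      obtain ⟨f', hf', hc, hi, hcent⟩ := D.step h2 hf i h1 hz
      obtain ⟨R, hR⟩ := ih f' hf' (by
        refine Nat.le_of_lt_succ (lt_of_lt_of_le (Finset.card_lt_card ?_) hk)
        rw [Finset.ssubset_iff_of_subset]
        · exact ⟨i, by simp [h1, hz], fun hn => (Finset.mem_filter.1 hn).2 hi⟩
        · intro q hq
          simp only [Finset.mem_filter, Finset.mem_univ, true_and] at hq ⊢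
          exact fun e => hq (hcent q e))
      exact ⟨R, hc.trans hR⟩

/-- There are exactly `n` classes of involutions. -/
theorem classes (D : Setup G n) (h2 : ∀ H : Subgroup G, H.Normal → H.index ≠ 2) :
    Nat.card {c : ConjClasses G // ∃ x ∈ c.carrier, orderOf x = 2} = n := by
  classical
  haveI : Fact (Nat.Prime 2) := ⟨Nat.prime_two⟩
  let R : Fin n → Finset (Fin n) := fun k => Finset.Iic k
  have hord : ∀ R : Finset (Fin n), R.Nonempty → orderOf (D.ι (zel R)) = 2 := by
    rintro R ⟨i, hi⟩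
    haveI : Fact (Nat.Prime 2) := ⟨Nat.prime_two⟩
    refine orderOf_eq_prime (by rw [pow_two, ← map_mul, zel_sq, map_one]) fun e => zM_ne ?_
    have := congrFun (D.inj (e.trans (map_one _).symm)) i
    simpa [zel, hi] using this
  let F : Fin n → {c : ConjClasses G // ∃ x ∈ c.carrier, orderOf x = 2} := fun k =>
    ⟨ConjClasses.mk (D.ι (zel (R k))), _, ConjClasses.mem_carrier_mk, hord _ ⟨k, by simp [R]⟩⟩
  have hF : Function.Bijective F := by
    constructor
    · intro a b h
      have h' := D.weight (ConjClasses.mk_eq_mk_iff_isConj.1 (congrArg Subtype.val h))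
      simp only [R, Fin.card_Iic] at h'
      exact Fin.ext (by omega)
    · rintro ⟨c, x, hxc, hx⟩
      obtain ⟨k, A, hA, hAS, hAc, hxA⟩ := D.through x hx
      obtain ⟨f, hf⟩ := D.max A hA hAS hAc hxA
      have hf2 : f * f = 1 := D.inj (by rw [map_mul, map_one, hf, hA.sq _ hxA])
      obtain ⟨W, hW⟩ := D.to_center h2 hf2
      have hxW : IsConj x (D.ι (zel W)) := (isConj_iff.2 ⟨k, hf.symm⟩).trans hW
      have hne : W.card ≠ 0 := by
        intro h0
        rw [Finset.card_eq_zero] at h0
        subst h0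
        have h1 : zel (∅ : Finset (Fin n)) = 1 := funext fun i => by simp [zel]
        rw [h1, map_one] at hxW
        obtain ⟨c', hc'⟩ := isConj_iff.1 hxW
        rw [conj_eq_one_iff] at hc'
        rw [hc', orderOf_one] at hx
        exact absurd hx (by norm_num)
      have hle : W.card ≤ n := by simpa using Finset.card_le_univ W
      refine ⟨⟨W.card - 1, by omega⟩, Subtype.ext ?_⟩
      show ConjClasses.mk (D.ι (zel (R _))) = c
      rw [← ConjClasses.mem_carrier_iff_mk_eq.1 hxc]
      refine ConjClasses.mk_eq_mk_iff_isConj.2 ((hxW.trans (D.perm _ _ ?_)).symm)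
      simp only [R, Fin.card_Iic]
      omega
  rw [← Nat.card_congr (Equiv.ofBijective F hF), Nat.card_eq_fintype_card, Fintype.card_fin]

end Setup

end Cfsg.Agent.KondoClasses
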