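import Mathlib
import Cfsg.Agent.EqLemmas

/-!
# Elementary abelian 2-groups of permutations of largest order

* `card_sq_le` : an elementary abelian 2-subgroup `A` of `Perm X` has `|A|² ≤ 2 ^ |X|`;
* `full` : in case of equality every element may be restricted to an orbit, and orbits have 2 or 4 points;
* `exists_through` : two commuting involutions, the first fixed point free, lie in one that attains equality.
-/

set_option autoImplicit false

namespace Cfsg.Agent.KondoClasses

open MulAction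

variable {X : Type*}

/-- All elements square to `1` and commute with each other. -/
structure Elem {G : Type*} [Group G] (A : Subgroup G) : Prop where
  sq : ∀ a ∈ A, a * a = 1
  comm : ∀ a ∈ A, ∀ b ∈ A, a * b = b * a

theorem Elem.map {G H : Type*} [Group G] [Group H] {A : Subgroup G} (h : Elem A) (f : G →* H) : Elem (A.map f) := by
  constructor
  · rintro _ ⟨a, ha, rfl⟩
    rw [← map_mul, h.sq a ha, map_one]
  · rintro _ ⟨a, ha, rfl⟩ _ ⟨b, hb, rfl⟩
    rw [← map_mul, ← map_mul, h.comm a ha b hb]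

theorem Elem.isPGroup {G : Type*} [Group G] {A : Subgroup G} (h : Elem A) : IsPGroup 2 ↥A := fun a =>
  ⟨1, Subtype.ext (by simpa [pow_two] using h.sq a a.2)⟩

theorem sq_le_two_pow_of_isPow {o : ℕ} (h : ∃ k, o = 2 ^ k) (ho : o ≠ 2 ∧ o ≠ 4) : o ^ 2 < 2 ^ o := by
  obtain ⟨k, rfl⟩ := h
  rw [← pow_mul]
  refine Nat.pow_lt_pow_right (by norm_num) ?_
  match k, ho with
  | 0, _ => norm_num
  | 1, h => simp at h
  | 2, h => simp at h
  | k + 3, _ =>
    induction k with
    | zero => norm_num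
    | succ k ih =>
      have h8 : 8 ≤ 2 ^ (k + 3) := by
        calc 8 = 2 ^ 3 := by norm_num
          _ ≤ 2 ^ (k + 3) := Nat.pow_le_pow_right (by norm_num) (by omega)
      have := ih (by constructor <;> omega)
      rw [show k + 1 + 3 = k + 3 + 1 from by omega, pow_succ]
      omega

theorem sq_le_two_pow {o : ℕ} (h : ∃ k, o = 2 ^ k) : o ^ 2 ≤ 2 ^ o := by
  by_cases h2 : o = 2
  · subst h2; norm_num
  by_cases h4 : o = 4
  · subst h4; norm_num
  exact (sq_le_two_pow_of_isPow h ⟨h2, h4⟩).le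

variable [Finite X]

theorem orbit_isPow {A : Subgroup (Equiv.Perm X)} (hA : Elem A) (p : X) :
    ∃ k, Nat.card (orbit ↥A p) = 2 ^ k := hA.isPGroup.card_orbit p

/-- The evaluation of an elementary abelian group at representatives of its orbits. -/
noncomputable def evalReps (A : Subgroup (Equiv.Perm X)) (a : ↥A) (ω : orbitRel.Quotient ↥A X) :
    ↥(orbit ↥A ω.out) := ⟨a • ω.out, mem_orbit _ _⟩

theorem evalReps_injective {A : Subgroup (Equiv.Perm X)} (hA : Elem A) : Function.Injective (evalReps A) := by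
  intro a b h
  refine Subtype.ext (Equiv.ext fun q => ?_)
  set ω : orbitRel.Quotient ↥A X := Quotient.mk'' q
  have hq : q ∈ orbit ↥A ω.out := by
    have h1 : (Quotient.mk'' q : orbitRel.Quotient ↥A X) = Quotient.mk'' ω.out := (Quotient.out_eq' ω).symm
    exact orbitRel_apply.1 (Quotient.eq''.1 h1)
  obtain ⟨c, hc⟩ := hq
  have h2 := congrArg Subtype.val (congrFun h ω)
  rw [← hc]
  calc (a : Equiv.Perm X) ((c : Equiv.Perm X) ω.out)
      = (c : Equiv.Perm X) ((a : Equiv.Perm X) ω.out) := by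
        rw [← Equiv.Perm.mul_apply, hA.comm _ a.2 _ c.2, Equiv.Perm.mul_apply]
    _ = (c : Equiv.Perm X) ((b : Equiv.Perm X) ω.out) := congrArg (c : Equiv.Perm X) h2
    _ = (b : Equiv.Perm X) ((c : Equiv.Perm X) ω.out) := by
        rw [← Equiv.Perm.mul_apply, ← hA.comm _ b.2 _ c.2, Equiv.Perm.mul_apply]

theorem card_eq_sum [Fintype X] (A : Subgroup (Equiv.Perm X)) [Fintype (orbitRel.Quotient ↥A X)] :
    Nat.card X = ∑ ω : orbitRel.Quotient ↥A X, Nat.card (orbit ↥A ω.out) := by
  rw [Nat.card_congr (selfEquivSigmaOrbits ↥A X), Nat.card_sigma]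

theorem card_le_prod [Fintype X] {A : Subgroup (Equiv.Perm X)} (hA : Elem A) [Fintype (orbitRel.Quotient ↥A X)] :
    Nat.card A ≤ ∏ ω : orbitRel.Quotient ↥A X, Nat.card (orbit ↥A ω.out) := by
  rw [← Nat.card_pi]
  exact Nat.card_le_card_of_injective _ (evalReps_injective hA)

theorem prod_sq_le [Fintype X] {A : Subgroup (Equiv.Perm X)} (hA : Elem A) [Fintype (orbitRel.Quotient ↥A X)] :
    (∏ ω : orbitRel.Quotient ↥A X, Nat.card (orbit ↥A ω.out)) ^ 2 ≤ 2 ^ Nat.card X := by
  rw [← Finset.prod_pow, card_eq_sum A, ← Finset.prod_pow_eq_pow_sum]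
  exact Finset.prod_le_prod' fun ω _ => sq_le_two_pow (orbit_isPow hA _)

theorem card_sq_le {A : Subgroup (Equiv.Perm X)} (hA : Elem A) : Nat.card A ^ 2 ≤ 2 ^ Nat.card X := by
  classical
  have := Fintype.ofFinite X
  have := Fintype.ofFinite (orbitRel.Quotient ↥A X)
  exact (Nat.pow_le_pow_left (card_le_prod hA) 2).trans (prod_sq_le hA)

/-- In case of equality each element can be cut down to any orbit, and each orbit has two or four points. -/
theorem full {A : Subgroup (Equiv.Perm X)} (hA : Elem A) (heq : Nat.card A ^ 2 = 2 ^ Nat.card X) (p : X) :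
    (Nat.card (orbit ↥A p) = 2 ∨ Nat.card (orbit ↥A p) = 4) ∧
      ∀ a ∈ A, ∃ c ∈ A, c p = a p ∧ ∀ q, q ∉ orbit ↥A p → c q = q := by
  classical
  have := Fintype.ofFinite X
  have := Fintype.ofFinite (orbitRel.Quotient ↥A X)
  set o : orbitRel.Quotient ↥A X → ℕ := fun ω => Nat.card (orbit ↥A ω.out) with ho
  have h1 : Nat.card A ^ 2 ≤ (∏ ω, o ω) ^ 2 := Nat.pow_le_pow_left (card_le_prod hA) 2
  have h2 : (∏ ω, o ω) ^ 2 ≤ 2 ^ Nat.card X := prod_sq_le hA
  have hbij : Function.Bijective (evalReps A) := by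
    rw [Nat.bijective_iff_injective_and_card]
    refine ⟨evalReps_injective hA, ?_⟩
    rw [Nat.card_pi]
    exact Nat.pow_left_injective two_ne_zero (le_antisymm h1 (h2.trans heq.symm.le))
  have hω : ∀ ω, o ω = 2 ∨ o ω = 4 := by
    intro ω
    by_contra hne
    rw [not_or] at hne
    refine absurd (heq.symm.le.trans h1) (not_le.2 ?_)
    show (∏ ω, o ω) ^ 2 < 2 ^ Nat.card X
    rw [← Finset.prod_pow, card_eq_sum A, ← Finset.prod_pow_eq_pow_sum]
    exact Finset.prod_lt_prod (fun ω _ => pow_pos (by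
      haveI : Nonempty (orbit ↥A ω.out) := ⟨⟨_, mem_orbit_self _⟩⟩
      exact Nat.card_pos) 2) (fun ω _ => sq_le_two_pow (orbit_isPow hA _))
      ⟨ω, Finset.mem_univ _, sq_le_two_pow_of_isPow (orbit_isPow hA _) hne⟩
  set ω₀ : orbitRel.Quotient ↥A X := Quotient.mk'' p with hω0
  have hp : p ∈ orbit ↥A ω₀.out := by
    have h3 : (Quotient.mk'' p : orbitRel.Quotient ↥A X) = Quotient.mk'' ω₀.out := (Quotient.out_eq' ω₀).symm
    exact orbitRel_apply.1 (Quotient.eq''.1 h3)
  have horb : orbit ↥A p = orbit ↥A ω₀.out := orbit_eq_iff.2 hp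
  refine ⟨by rw [horb]; exact hω ω₀, fun a ha => ?_⟩
  obtain ⟨c, hc⟩ := hbij.2 (Function.update (evalReps A 1) ω₀ (evalReps A ⟨a, ha⟩ ω₀))
  have hval : ∀ q, (c : Equiv.Perm X) q =
      if (Quotient.mk'' q : orbitRel.Quotient ↥A X) = ω₀ then a q else q := by
    intro q
    set ω : orbitRel.Quotient ↥A X := Quotient.mk'' q
    have hq : q ∈ orbit ↥A ω.out := by
      have h3 : (Quotient.mk'' q : orbitRel.Quotient ↥A X) = Quotient.mk'' ω.out := (Quotient.out_eq' ω).symm
      exact orbitRel_apply.1 (Quotient.eq''.1 h3)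
    obtain ⟨d, hd⟩ := hq
    have hd' : (d : Equiv.Perm X) ω.out = q := hd
    have hcomm : ∀ e ∈ A, e q = (d : Equiv.Perm X) (e ω.out) := by
      intro e he
      rw [← hd', ← Equiv.Perm.mul_apply, hA.comm _ he _ d.2, Equiv.Perm.mul_apply]
    have hcω := congrArg Subtype.val (congrFun hc ω)
    rw [hcomm _ c.2]
    split_ifs with h
    · rw [hcomm a ha]
      refine congrArg (d : Equiv.Perm X) (hcω.trans ?_)
      rw [h, Function.update_self]
      rfl
    · refine Eq.trans (congrArg (d : Equiv.Perm X) (hcω.trans ?_)) hd'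
      rw [Function.update_of_ne h]
      show ((1 : ↥A) : Equiv.Perm X) ω.out = ω.out
      rfl
  refine ⟨c, c.2, by rw [hval, if_pos rfl], fun q hq => ?_⟩
  rw [hval, if_neg]
  intro h
  exact hq (orbitRel_apply.1 (Quotient.eq''.1 h))

/-- The permutations acting on each orbit of `A₀` as one of its elements. -/
noncomputable def orbitwise (A₀ : Subgroup (Equiv.Perm X)) (hA : Elem A₀) :
    (orbitRel.Quotient ↥A₀ X → ↥A₀) →* Equiv.Perm X := by
  haveI : IsMulCommutative ↥A₀ := ⟨⟨fun a b => Subtype.ext (hA.comm a a.2 b b.2)⟩⟩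
  let f : (orbitRel.Quotient ↥A₀ X → ↥A₀) → X → X := fun c q => c (Quotient.mk'' q) • q
  have hmk : ∀ (a : ↥A₀) (q : X), (Quotient.mk'' (a • q) : orbitRel.Quotient ↥A₀ X) = Quotient.mk'' q :=
    fun a q => Quotient.eq''.2 (orbitRel_apply.2 (mem_orbit q a))
  have hmul : ∀ c d q, f (c * d) q = f c (f d q) := fun c d q => by
    show (c * d) _ • q = c (Quotient.mk'' (d _ • q)) • d _ • q
    rw [hmk, Pi.mul_apply, mul_smul]
  have hone : ∀ q, f 1 q = q := fun q => one_smul ↥A₀ q
  exact MonoidHom.mk' (fun c =>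
    { toFun := f c
      invFun := f c⁻¹
      left_inv := fun q => by rw [← hmul, inv_mul_cancel, hone]
      right_inv := fun q => by rw [← hmul, mul_inv_cancel, hone] })
    fun c d => Equiv.ext fun q => hmul c d q

omit [Finite X] in
theorem orbitwise_apply (A₀ : Subgroup (Equiv.Perm X)) (hA : Elem A₀) (c : orbitRel.Quotient ↥A₀ X → ↥A₀)
    (q : X) : orbitwise A₀ hA c q = c (Quotient.mk'' q) • q := rfl

theorem exists_through {α x : Equiv.Perm X} (hα : α * α = 1) (hx : x * x = 1) (hc : α * x = x * α)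
    (hfree : ∀ p, α p ≠ p) :
    ∃ A : Subgroup (Equiv.Perm X), Elem A ∧ x ∈ A ∧ (∀ a ∈ A, a * α = α * a) ∧
      Nat.card A ^ 2 = 2 ^ Nat.card X := by
  classical
  have := Fintype.ofFinite X
  let A₀ : Subgroup (Equiv.Perm X) :=
    { carrier := {a | a = 1 ∨ a = α ∨ a = x ∨ a = α * x}
      one_mem' := Or.inl rfl
      mul_mem' := by
        have h1 : x * α = α * x := hc.symm
        have h2 : ∀ b, α * (α * b) = b := fun b => by rw [← mul_assoc, hα, one_mul]
        have h3 : ∀ b, x * (x * b) = b := fun b => by rw [← mul_assoc, hx, one_mul]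
        have h4 : ∀ b, x * (α * b) = α * (x * b) := fun b => by rw [← mul_assoc, h1, mul_assoc]
        rintro a b (h | h | h | h) (h' | h' | h' | h') <;> rw [h, h'] <;>
          simp [Set.mem_ofPred_eq, mul_assoc, hα, hx, h1, h2, h4]
      inv_mem' := by
        intro a ha
        have e : a⁻¹ = a := by
          apply inv_eq_of_mul_eq_one_right
          rcases ha with h | h | h | h <;> rw [h]
          · exact one_mul 1
          · exact hα
          · exact hx
          · rw [mul_assoc, ← mul_assoc x, ← hc, mul_assoc α x, hx, mul_one, hα]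
        rwa [e] }
  have hA₀ : Elem A₀ := by
    refine ⟨?_, ?_⟩
    · rintro a (h | h | h | h) <;> rw [h]
      · exact one_mul 1
      · exact hα
      · exact hx
      · rw [mul_assoc, ← mul_assoc x, ← hc, mul_assoc α x, hx, mul_one, hα]
    · have h4 : ∀ b, x * (α * b) = α * (x * b) := fun b => by rw [← mul_assoc, ← hc, mul_assoc]
      have h2 : ∀ b, α * (α * b) = b := fun b => by rw [← mul_assoc, hα, one_mul]
      rintro a (h | h | h | h) b (h' | h' | h' | h') <;> rw [h, h'] <;>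
        simp [mul_assoc, hc.symm, h4, h2, hx, hα]
  have hαA : α ∈ A₀ := Or.inr (Or.inl rfl)
  have hxA : x ∈ A₀ := Or.inr (Or.inr (Or.inl rfl))
  set φ := orbitwise A₀ hA₀
  have hE : Elem φ.range := by
    constructor
    · rintro _ ⟨c, rfl⟩
      rw [← map_mul, show c * c = 1 from funext fun ω => Subtype.ext (hA₀.sq _ (c ω).2), map_one]
    · rintro _ ⟨c, rfl⟩ _ ⟨d, rfl⟩
      rw [← map_mul, ← map_mul, show c * d = d * c from funext fun ω => Subtype.ext (hA₀.comm _ (c ω).2 _ (d ω).2)]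
  have hconst : ∀ (a : Equiv.Perm X) (ha : a ∈ A₀), a ∈ φ.range := fun a ha =>
    ⟨fun _ => ⟨a, ha⟩, Equiv.ext fun q => orbitwise_apply A₀ hA₀ _ q⟩
  refine ⟨φ.range, hE, hconst x hxA, fun a ha => hE.comm a ha α (hconst α hαA), ?_⟩
  refine le_antisymm (card_sq_le hE) ?_
  have := Fintype.ofFinite (orbitRel.Quotient ↥A₀ X)
  have hle : ∏ ω : orbitRel.Quotient ↥A₀ X, Nat.card (orbit ↥A₀ ω.out) ≤ Nat.card φ.range := by
    rw [← Nat.card_pi]
    choose c hc' using fun (v : ∀ ω : orbitRel.Quotient ↥A₀ X, ↥(orbit ↥A₀ ω.out)) ω => (v ω).2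
    refine Nat.card_le_card_of_injective (fun v => (⟨φ (c v), _, rfl⟩ : φ.range)) fun v w h => ?_
    refine funext fun ω => Subtype.ext ?_
    have h' := Equiv.Perm.congr_fun (congrArg Subtype.val h) ω.out
    simp only [φ, orbitwise_apply, Quotient.out_eq'] at h'
    exact (hc' v ω).symm.trans (h'.trans (hc' w ω))
  refine le_trans (le_of_eq ?_) (Nat.pow_le_pow_left hle 2)
  rw [← Finset.prod_pow, card_eq_sum A₀, ← Finset.prod_pow_eq_pow_sum]
  refine Finset.prod_congr rfl fun ω _ => ?_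
  obtain ⟨k, hk⟩ := orbit_isPow hA₀ ω.out
  have h2 : 1 < Nat.card (orbit ↥A₀ ω.out) := by
    haveI : Nontrivial (orbit ↥A₀ ω.out) :=
      ⟨⟨⟨ω.out, mem_orbit_self _⟩, ⟨α ω.out, ⟨⟨α, hαA⟩, rfl⟩⟩, fun h => hfree _ (congrArg Subtype.val h).symm⟩⟩
    exact Finite.one_lt_card
  have h4 : Nat.card (orbit ↥A₀ ω.out) ≤ 4 := by
    rw [Nat.card_coe_set_eq]
    refine (Set.ncard_le_ncard (t := {ω.out, α ω.out, x ω.out, α (x ω.out)}) ?_ (Set.toFinite _)).trans ?_
    · rintro _ ⟨⟨a, h | h | h | h⟩, rfl⟩ <;> simp [Subgroup.smul_def, h]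
    · refine (Set.ncard_insert_le _ _).trans ?_
      refine Nat.succ_le_succ ((Set.ncard_insert_le _ _).trans ?_)
      refine Nat.succ_le_succ ((Set.ncard_insert_le _ _).trans ?_)
      simp
  rw [hk] at h2 h4 ⊢
  have hk2 : k ≤ 2 := by
    by_contra hk3
    have := Nat.pow_le_pow_right two_pos (show 3 ≤ k by omega)
    omega
  interval_cases k <;> simp_all

end Cfsg.Agent.KondoClasses
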