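import Cfsg.Agent.Lib.KondoClasses.Elementary

/-!
# The centraliser of a fixed point free involution on `4n` points

* `cell` : the centraliser of a double transposition on four points, dihedral of order 8;
* `base` : its `n`-fold product as permutations of `Fin n × Cell`;
* `base_of_maximal` : in a 2-group in which it is normal, the elementary abelian groups of largest order lie in it;
* `lam` : the sign times the sign on the pairs, which is odd on each non-central involution of a cell.
-/

set_option autoImplicit false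
set_option synthInstance.maxSize 1024

namespace Cfsg.Agent.KondoClasses

abbrev Cell := Fin 2 × Fin 2

abbrev P4 := Equiv.Perm Cell

/-- The flip of both pairs of a cell. -/
def fl : P4 where
  toFun p := (p.1, p.2 + 1)
  invFun p := (p.1, p.2 + 1)
  left_inv := by decide
  right_inv := by decide

theorem fl_sq : fl * fl = 1 := by decide +kernel

theorem fl_ne : fl ≠ 1 := by decide +kernel

/-- The permutation of the two pairs of a cell. -/
def pair (m : P4) (j : Fin 2) : Fin 2 := (m (j, 0)).1

/-- The centraliser of `fl`. -/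
def cell : Subgroup P4 where
  carrier := {m | m * fl = fl * m}
  one_mem' := by simp
  mul_mem' := fun {a b} (ha : a * fl = fl * a) (hb : b * fl = fl * b) => by
    show a * b * fl = fl * (a * b)
    rw [mul_assoc, hb, ← mul_assoc, ha, mul_assoc]
  inv_mem' := fun {a} (ha : a * fl = fl * a) => by
    show a⁻¹ * fl = fl * a⁻¹
    rw [inv_mul_eq_iff_eq_mul, ← mul_assoc, ha, mul_inv_cancel_right]

instance : DecidablePred (· ∈ cell) := fun m => inferInstanceAs (Decidable (m * fl = fl * m))

/-- Dihedral of order eight. -/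
abbrev M : Type := ↥cell

/-- Its central involution. -/
def zM : M := ⟨fl, rfl⟩

theorem zM_sq : zM * zM = 1 := by decide +kernel

theorem zM_ne : zM ≠ 1 := by decide +kernel

theorem zM_comm : ∀ a : M, zM * a = a * zM := by decide +kernel

theorem comm_or : ∀ a b : M, a * b = b * a ∨ a * b = b * a * zM := by decide +kernel

theorem central_iff : ∀ a : M, (∀ b : M, a * b = b * a) → a = 1 ∨ a = zM := by decide +kernel

theorem central_of_two : ∀ a b c : M, c * a = a * c → c * b = b * c → a * b ≠ b * a → c = 1 ∨ c = zM := by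
  decide +kernel

theorem exists_noncomm : ∀ a : M, a ≠ 1 → a ≠ zM → ∃ m : M, m * m = 1 ∧ a * m ≠ m * a := by decide +kernel

theorem gen_two : ∀ m : M, ∃ a b : M, a * a = 1 ∧ b * b = 1 ∧ m = a * b := by decide +kernel

theorem exists_pair : ∃ a b : M, a * a = 1 ∧ b * b = 1 ∧ a * b ≠ b * a := by decide +kernel

/-- A four-group containing a given involution. -/
theorem four : ∀ a : M, a * a = 1 → ∃ T : M, T * T = 1 ∧ T ≠ 1 ∧ T ≠ zM ∧ a * T = T * a := by decide +kernel

theorem four_elem : ∀ T a b : M, T * T = 1 → T ≠ 1 → T ≠ zM → a * T = T * a → b * T = T * b →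
    a * a = 1 ∧ a * b = b * a := by decide +kernel

theorem four_card : ∀ T : M, T * T = 1 → T ≠ 1 → T ≠ zM →
    (Finset.univ.filter fun a : M => a * T = T * a).card = 4 := by decide +kernel

/-- The character with kernel the cyclic subgroup of order four. -/
def chi (m : M) : ℤˣ :=
  Equiv.Perm.sign (m : P4) * (if pair (m : P4) 0 = 0 then 1 else -1)

theorem chi_val : ∀ m : M, m * m = 1 → (chi m = -1 ↔ m ≠ 1 ∧ m ≠ zM) := by decide +kernel

theorem chi_central : chi 1 = 1 ∧ chi zM = 1 := by decide +kernel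

theorem move : ∀ c d : Cell, ∃ m : M, (m : P4) c = d := by decide +kernel

variable {n : ℕ}

abbrev Pts (n : ℕ) := Fin n × Cell

/-- Flip everywhere. -/
def a0 (n : ℕ) : Equiv.Perm (Pts n) := Equiv.prodCongrRight fun _ => fl

theorem a0_sq : a0 n * a0 n = 1 := Equiv.ext fun p => by
  show (p.1, fl (fl p.2)) = p
  rw [← Equiv.Perm.mul_apply, fl_sq]
  rfl

theorem a0_free (p : Pts n) : a0 n p ≠ p := fun h => by
  have h' : ∀ c : Cell, fl c ≠ c := by decide +kernel
  exact h' p.2 (congrArg Prod.snd h)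

/-- The centraliser of `a0`. -/
def big (n : ℕ) : Subgroup (Equiv.Perm (Pts n)) := Subgroup.centralizer {a0 n}

theorem mem_big {σ : Equiv.Perm (Pts n)} : σ ∈ big n ↔ σ * a0 n = a0 n * σ :=
  Subgroup.mem_centralizer_singleton_iff

/-- The product of the cells. -/
def base (n : ℕ) : (Fin n → M) →* Equiv.Perm (Pts n) :=
  MonoidHom.mk' (fun f => Equiv.prodCongrRight fun i => (f i : P4)) fun _ _ => Equiv.ext fun _ => rfl

theorem base_apply (f : Fin n → M) (p : Pts n) : base n f p = (p.1, (f p.1 : P4) p.2) := rfl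

theorem base_injective : Function.Injective (base n) := fun f g h => funext fun i =>
  Subtype.ext (Equiv.ext fun c => congrArg Prod.snd (Equiv.Perm.congr_fun h (i, c)))

theorem base_mem_big (f : Fin n → M) : base n f ∈ big n := mem_big.2 (Equiv.ext fun p => by
  show (p.1, (f p.1 : P4) (fl p.2)) = (p.1, fl ((f p.1 : P4) p.2))
  rw [← Equiv.Perm.mul_apply, ← Equiv.Perm.mul_apply, show (f p.1 : P4) * fl = fl * (f p.1 : P4) from (f p.1).2])

theorem isPGroup_M : IsPGroup 2 M :=
  IsPGroup.of_card (n := 3) (by rw [Nat.card_eq_fintype_card]; decide +kernel)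

theorem isPGroup_base : IsPGroup 2 ↥(base n).range := by
  have h : IsPGroup 2 (Fin n → M) :=
    IsPGroup.of_card (n := 3 * n) (by
      rw [Nat.card_pi, Finset.prod_const, Nat.card_eq_fintype_card, Finset.card_univ, Fintype.card_fin,
        show Fintype.card M = 2 ^ 3 by decide +kernel, ← pow_mul])
  exact h.of_surjective (base n).rangeRestrict (base n).rangeRestrict_surjective

theorem card_pts : Nat.card (Pts n) = 4 * n := by
  rw [Nat.card_prod, Nat.card_eq_fintype_card, Fintype.card_fin, Nat.card_prod, Nat.card_eq_fintype_card,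
    Fintype.card_fin]
  ring

theorem sq_eq_iff {A : Subgroup (Equiv.Perm (Pts n))} :
    Nat.card A ^ 2 = 2 ^ Nat.card (Pts n) ↔ Nat.card A = 4 ^ n := by
  rw [card_pts, show 4 * n = 2 * n * 2 from by ring, pow_mul, pow_mul, show (2 : ℕ) ^ 2 = 4 from rfl]
  exact ⟨fun h => Nat.pow_left_injective two_ne_zero h, fun h => by rw [h]⟩

/-- Permuting the cells. -/
def blockPerm (n : ℕ) (σ : Equiv.Perm (Fin n)) : Equiv.Perm (Pts n) := σ.prodCongr (Equiv.refl _)

theorem blockPerm_mem_big (σ : Equiv.Perm (Fin n)) : blockPerm n σ ∈ big n := mem_big.2 (Equiv.ext fun _ => rfl)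

theorem blockPerm_base (σ : Equiv.Perm (Fin n)) (f : Fin n → M) :
    blockPerm n σ * base n f = base n (fun i => f (σ.symm i)) * blockPerm n σ := Equiv.ext fun p => by
  show (σ p.1, (f p.1 : P4) p.2) = (σ p.1, (f (σ.symm (σ p.1)) : P4) p.2)
  rw [Equiv.symm_apply_apply]

theorem same_block_iff (p q : Pts n) : p.1 = q.1 ↔ ∃ b ∈ (base n).range, b p = q := by
  constructor
  · intro h
    obtain ⟨m, hm⟩ := move p.2 q.2
    refine ⟨_, ⟨fun _ => m, rfl⟩, ?_⟩
    rw [base_apply, hm, h]
  · rintro ⟨_, ⟨f, rfl⟩, h⟩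
    rw [← h, base_apply]

/-- An element normalising the base permutes the cells. -/
theorem block_of_normalizer {σ : Equiv.Perm (Pts n)}
    (hσ : ∀ b ∈ (base n).range, σ * b * σ⁻¹ ∈ (base n).range) {p q : Pts n} (h : p.1 = q.1) :
    (σ p).1 = (σ q).1 := by
  obtain ⟨b, hb, rfl⟩ := (same_block_iff p q).1 h
  exact (same_block_iff _ _).2 ⟨_, hσ b hb, by simp⟩

/-- The elementary abelian groups of largest order normalising the base lie in it. -/
theorem le_base_of_normalizer {A : Subgroup (Equiv.Perm (Pts n))} (hA : Elem A) (hcard : Nat.card A = 4 ^ n)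
    (hbig : A ≤ big n) (hnorm : ∀ a ∈ A, ∀ b ∈ (base n).range, a * b * a⁻¹ ∈ (base n).range) :
    A ≤ (base n).range := by
  classical
  have hfix : ∀ a ∈ A, ∀ p, (a p).1 = p.1 := by
    intro a ha p
    by_contra hne
    obtain ⟨ho, hc⟩ := full hA (sq_eq_iff.2 hcard) p
    obtain ⟨c, hcA, hcp, hout⟩ := hc a ha
    have hblock : ∀ q q' : Pts n, q.1 = q'.1 → (c q).1 = (c q').1 := fun q q' => block_of_normalizer (hnorm c hcA)
    -- the eight points of the two cells all lie in the orbit
    have hmoved : ∀ q : Pts n, q.1 = p.1 ∨ q.1 = (a p).1 → q ∈ MulAction.orbit ↥A p := by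
      intro q hq
      by_contra hqo
      have hq' : c q = q := hout q hqo
      have hcc : c (a p) = p := by
        rw [← hcp, ← Equiv.Perm.mul_apply, hA.sq c hcA, Equiv.Perm.one_apply]
      rcases hq with h | h
      · have := hblock q p h
        rw [hq', hcp, h] at this
        exact hne this.symm
      · have := hblock q (a p) h
        rw [hq', hcc, h] at this
        exact hne this
    have hcard8 : 8 ≤ (MulAction.orbit ↥A p).ncard := by
      refine le_trans ?_ (Set.ncard_le_ncard
        (s := ((({p.1, (a p).1} : Finset (Fin n)) ×ˢ (Finset.univ : Finset Cell) : Finset (Pts n)) : Set (Pts n)))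
        ?_ (Set.toFinite _))
      · rw [Set.ncard_coe_finset, Finset.card_product, Finset.card_pair (Ne.symm hne)]
        simp
      · intro q hq
        simp only [Finset.coe_product, Finset.coe_univ, Set.mem_prod, Set.mem_univ, and_true, Finset.coe_insert,
          Finset.coe_singleton, Set.mem_insert_iff, Set.mem_singleton_iff] at hq
        exact hmoved q hq
    rw [Nat.card_coe_set_eq] at ho
    omega
  intro a ha
  have hb := mem_big.1 (hbig ha)
  let m : Fin n → P4 := fun i =>
    { toFun := fun c => (a (i, c)).2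
      invFun := fun c => (a (i, c)).2
      left_inv := fun c => by
        have h : a (i, (a (i, c)).2) = a (a (i, c)) := congrArg a (Prod.ext (hfix a ha (i, c)).symm rfl)
        show (a (i, (a (i, c)).2)).2 = c
        rw [h, ← Equiv.Perm.mul_apply, hA.sq a ha, Equiv.Perm.one_apply]
      right_inv := fun c => by
        have h : a (i, (a (i, c)).2) = a (a (i, c)) := congrArg a (Prod.ext (hfix a ha (i, c)).symm rfl)
        show (a (i, (a (i, c)).2)).2 = c
        rw [h, ← Equiv.Perm.mul_apply, hA.sq a ha, Equiv.Perm.one_apply] }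
  have hm : ∀ i, m i * fl = fl * m i := fun i => Equiv.ext fun c => by
    show (a (a0 n (i, c))).2 = fl (a (i, c)).2
    rw [← Equiv.Perm.mul_apply, hb]
    rfl
  exact ⟨fun i => ⟨m i, hm i⟩, Equiv.ext fun p => Prod.ext (hfix a ha p).symm rfl⟩

/-- The elementary abelian group attached to a choice of four-groups. -/
def choiceGroup (T : Fin n → M) : Subgroup (Fin n → M) where
  carrier := {f | ∀ i, f i * T i = T i * f i}
  one_mem' := fun i => by simp
  mul_mem' := fun {a b} ha hb i => by rw [Pi.mul_apply, mul_assoc, hb i, ← mul_assoc, ha i, mul_assoc]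
  inv_mem' := fun {a} ha i => by rw [Pi.inv_apply, inv_mul_eq_iff_eq_mul, ← mul_assoc, ha i, mul_inv_cancel_right]

theorem choiceGroup_elem {T : Fin n → M} (hT : ∀ i, T i * T i = 1 ∧ T i ≠ 1 ∧ T i ≠ zM) : Elem (choiceGroup T) where
  sq := fun a ha => funext fun i => (four_elem (T i) (a i) (a i) (hT i).1 (hT i).2.1 (hT i).2.2 (ha i) (ha i)).1
  comm := fun a ha b hb => funext fun i =>
    (four_elem (T i) (a i) (b i) (hT i).1 (hT i).2.1 (hT i).2.2 (ha i) (hb i)).2

theorem choiceGroup_card {T : Fin n → M} (hT : ∀ i, T i * T i = 1 ∧ T i ≠ 1 ∧ T i ≠ zM) :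
    Nat.card (choiceGroup T) = 4 ^ n := by
  classical
  have e : ↥(choiceGroup T) ≃ ∀ i, {a : M // a * T i = T i * a} :=
    Equiv.subtypePiEquivPi (p := fun i a => a * T i = T i * a)
  rw [Nat.card_congr e, Nat.card_pi, Finset.prod_congr rfl (fun i _ => show
      Nat.card {a : M // a * T i = T i * a} = 4 by
    rw [Nat.card_eq_fintype_card, Fintype.card_subtype]
    exact four_card (T i) (hT i).1 (hT i).2.1 (hT i).2.2)]
  simp

/-- An involution of the product lies in an elementary abelian group of largest order, also with prescribed partners. -/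
theorem exists_choice {f : Fin n → M} (hf : ∀ i, f i * f i = 1) :
    ∃ T : Fin n → M, (∀ i, T i * T i = 1 ∧ T i ≠ 1 ∧ T i ≠ zM) ∧ f ∈ choiceGroup T := by
  choose T h1 h2 h3 h4 using fun i => four (f i) (hf i)
  exact ⟨T, fun i => ⟨h1 i, h2 i, h3 i⟩, h4⟩

theorem exists_elem_base {f : Fin n → M} (hf : ∀ i, f i * f i = 1) : ∃ A : Subgroup (Fin n → M),
    Elem A ∧ Nat.card A = 4 ^ n ∧ f ∈ A := by
  obtain ⟨T, hT, hfT⟩ := exists_choice hf
  exact ⟨_, choiceGroup_elem hT, choiceGroup_card hT, hfT⟩

/-- Where the elementary abelian groups of largest order lie in the base, the normaliser preserves the base. -/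
theorem conj_base_of_gen {C : Subgroup (Equiv.Perm (Pts n))} {y : Equiv.Perm (Pts n)}
    (hmax : ∀ E : Subgroup (Equiv.Perm (Pts n)), Elem E → E ≤ C → Nat.card E = 4 ^ n → E ≤ (base n).range)
    (hBC : (base n).range ≤ C) (hy : ∀ c ∈ C, y * c * y⁻¹ ∈ C) (f : Fin n → M) :
    y * base n f * y⁻¹ ∈ (base n).range := by
  have h1 : ∀ g : Fin n → M, (∀ i, g i * g i = 1) → y * base n g * y⁻¹ ∈ (base n).range := by
    intro g hg
    obtain ⟨A, hA, hAc, hgA⟩ := exists_elem_base hg
    have hi : Function.Injective ((MulAut.conj y).toMonoidHom.comp (base n)) :=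
      (MulAut.conj y).injective.comp base_injective
    refine hmax (A.map ((MulAut.conj y).toMonoidHom.comp (base n))) (hA.map _) ?_
      (by rw [Subgroup.card_map_of_injective hi, hAc]) ⟨g, hgA, rfl⟩
    rintro _ ⟨a, -, rfl⟩
    exact hy _ (hBC ⟨a, rfl⟩)
  choose a b ha hb hab using fun i => gen_two (f i)
  rw [show f = a * b from funext hab, map_mul,
    show y * (base n a * base n b) * y⁻¹ = y * base n a * y⁻¹ * (y * base n b * y⁻¹) by group]
  exact mul_mem (h1 a ha) (h1 b hb)

/-- In a 2-group containing the base, the elementary abelian groups of largest order lie in it. -/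
theorem base_of_maximal {Q : Subgroup (Equiv.Perm (Pts n))} (hQ : IsPGroup 2 ↥Q) (hQbig : Q ≤ big n)
    (hB : (base n).range ≤ Q) {A : Subgroup (Equiv.Perm (Pts n))} (hAQ : A ≤ Q) (hA : Elem A)
    (hcard : Nat.card A = 4 ^ n) : A ≤ (base n).range := by
  classical
  haveI : Fact (Nat.Prime 2) := ⟨Nat.prime_two⟩
  suffices hnorm : ∀ s ∈ Q, ∀ b ∈ (base n).range, s * b * s⁻¹ ∈ (base n).range from
    le_base_of_normalizer hA hcard (hAQ.trans hQbig) fun a ha => hnorm a (hAQ ha)
  set B : Subgroup ↥Q := (base n).range.subgroupOf Q with hBdef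
  set N : Subgroup ↥Q := Subgroup.normalizer (B : Set ↥Q) with hN
  have hmemN : ∀ x : ↥Q, x ∈ N → ∀ b ∈ (base n).range, (x : Equiv.Perm (Pts n)) * b * (x : Equiv.Perm (Pts n))⁻¹
      ∈ (base n).range := fun x hx b hb =>
    Subgroup.mem_subgroupOf.1 ((Subgroup.mem_normalizer_iff.1 hx ⟨b, hB hb⟩).1 (Subgroup.mem_subgroupOf.2 hb))
  suffices htop : N = ⊤ from fun s hs => hmemN ⟨s, hs⟩ (htop ▸ Subgroup.mem_top _)
  haveI : Group.IsNilpotent ↥Q := hQ.isNilpotent
  refine normalizerCondition_iff_only_full_group_self_normalizing.1 (Group.normalizerCondition_of_isNilpotent (G := ↥Q)) N ?_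
  refine le_antisymm (fun x hx => ?_) Subgroup.le_normalizer
  refine Subgroup.mem_normalizer_iff.2 fun b => ?_
  have key : ∀ y : ↥Q, y ∈ Subgroup.normalizer (N : Set ↥Q) → ∀ b ∈ B, y * b * y⁻¹ ∈ B := by
    intro y hy b hb
    obtain ⟨f, hf⟩ := Subgroup.mem_subgroupOf.1 hb
    rw [hBdef, Subgroup.mem_subgroupOf]
    push_cast
    rw [← hf]
    exact conj_base_of_gen (C := N.map Q.subtype) (y := (y : Equiv.Perm (Pts n))) (hmax := fun E hE hEN hEc => by
        refine le_base_of_normalizer hE hEc (fun a ha => hQbig ?_) fun a ha b hb => ?_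
        · obtain ⟨a', -, rfl⟩ := hEN ha
          exact a'.2
        · obtain ⟨a', ha', rfl⟩ := hEN ha
          exact hmemN a' ha' b hb)
      (hBC := fun b hb => ⟨⟨b, hB hb⟩, Subgroup.le_normalizer (Subgroup.mem_subgroupOf.2 hb), rfl⟩)
      (hy := by
        rintro _ ⟨a, ha, rfl⟩
        exact ⟨y * a * y⁻¹, (Subgroup.mem_normalizer_iff.1 hy a).1 ha, by simp⟩) f
  refine ⟨key x hx b, fun h => ?_⟩
  have := key x⁻¹ ((Subgroup.normalizer (N : Set ↥Q)).inv_mem hx) _ h
  simpa [mul_assoc] using this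

/-- The permutation induced on the pairs. -/
def pairs (σ : Equiv.Perm (Pts n)) : Fin n × Fin 2 → Fin n × Fin 2 :=
  fun q => ((σ (q.1, (q.2, 0))).1, (σ (q.1, (q.2, 0))).2.1)

theorem pairs_flip {σ : Equiv.Perm (Pts n)} (hσ : σ ∈ big n) (i : Fin n) (j k : Fin 2) :
    ((σ (i, (j, k))).1, (σ (i, (j, k))).2.1) = pairs σ (i, j) := by
  rcases Fin.exists_fin_two.1 ⟨k, rfl⟩ with h | h <;> subst h
  · rfl
  · have h := Equiv.Perm.congr_fun (mem_big.1 hσ) (i, (j, 0))
    simp only [Equiv.Perm.mul_apply] at h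
    show ((σ (i, (j, 1))).1, (σ (i, (j, 1))).2.1) = _
    rw [show ((i, (j, 1)) : Pts n) = a0 n (i, (j, 0)) from rfl, h]
    rfl

theorem pairs_mul {σ τ : Equiv.Perm (Pts n)} (hσ : σ ∈ big n) (q : Fin n × Fin 2) :
    pairs (σ * τ) q = pairs σ (pairs τ q) :=
  pairs_flip hσ (τ (q.1, (q.2, 0))).1 (τ (q.1, (q.2, 0))).2.1 (τ (q.1, (q.2, 0))).2.2

/-- The action on the pairs. -/
def onPairs (n : ℕ) : ↥(big n) →* Equiv.Perm (Fin n × Fin 2) :=
  MonoidHom.mk' (fun σ =>
    { toFun := pairs σ.1
      invFun := pairs σ.1⁻¹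
      left_inv := fun q => by rw [← pairs_mul ((big n).inv_mem σ.2), inv_mul_cancel]; rfl
      right_inv := fun q => by rw [← pairs_mul σ.2, mul_inv_cancel]; rfl })
    fun σ τ => Equiv.ext fun q => pairs_mul σ.2 q

/-- The sign times the sign on the pairs. -/
def lam (n : ℕ) : ↥(big n) →* ℤˣ :=
  Equiv.Perm.sign.comp (big n).subtype * Equiv.Perm.sign.comp (onPairs n)

theorem lam_base (f : Fin n → M) : lam n ⟨base n f, base_mem_big f⟩ = ∏ i, chi (f i) := by
  classical
  have hp : ∀ m : M, ∃ π : Equiv.Perm (Fin 2), (∀ j, π j = pair (m : P4) j) ∧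
      Equiv.Perm.sign π = if pair (m : P4) 0 = 0 then 1 else -1 := by decide +kernel
  choose π hπ hs using hp
  have h1 : onPairs n ⟨base n f, base_mem_big f⟩ = Equiv.prodCongrRight fun i => π (f i) :=
    Equiv.ext fun q => Prod.ext rfl (hπ (f q.1) q.2).symm
  show Equiv.Perm.sign (Equiv.prodCongrRight fun i => (f i : P4)) *
    Equiv.Perm.sign (onPairs n ⟨base n f, base_mem_big f⟩) = _
  rw [h1, Equiv.Perm.sign_prodCongrRight, Equiv.Perm.sign_prodCongrRight, ← Finset.prod_mul_distrib]
  exact Finset.prod_congr rfl fun i _ => by rw [hs]; rfl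

theorem exists_elem_through {x : Equiv.Perm (Pts n)} (hxb : x ∈ big n) (hx : x * x = 1) :
    ∃ A : Subgroup (Equiv.Perm (Pts n)), A ≤ big n ∧ Elem A ∧ x ∈ A ∧ Nat.card A = 4 ^ n := by
  obtain ⟨A, hA, hxA, hAc, hcard⟩ := exists_through a0_sq hx (mem_big.1 hxb).symm a0_free
  exact ⟨A, fun a ha => mem_big.2 (hAc a ha), hA, hxA, sq_eq_iff.1 hcard⟩

theorem card_elem_le {A : Subgroup (Equiv.Perm (Pts n))} (hA : Elem A) : Nat.card A ≤ 4 ^ n := by
  have h := card_sq_le hA
  rw [card_pts, show 4 * n = 2 * n * 2 from by ring, pow_mul, pow_mul] at h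
  exact (Nat.pow_le_pow_iff_left two_ne_zero).1 h

end Cfsg.Agent.KondoClasses
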